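import Groth.Agent.L13.LG.FieldPts
import Mathlib.LinearAlgebra.Matrix.Adjugate
import Mathlib.RingTheory.Localization.Away.Basic

/-! Minors of subbundles and transports along a change of ring. -/

set_option autoImplicit false

universe u v w

open Module

namespace Groth.L13.LG

variable {d r : ℕ}

/-- the square matrix of coordinates of a tuple at `J` -/
def sqm {A : Type v} (J : Fin r ↪ Fin d) (v : Fin r → Fin d → A) : Matrix (Fin r) (Fin r) A :=
  Matrix.of fun l m => v l (J m)

/-- `V` contains a tuple with invertible minor at `J` -/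
def Minor {A : Type v} [CommRing A] (J : Fin r ↪ Fin d) (V : Submodule A (Fin d → A)) : Prop :=
  ∃ v : Fin r → Fin d → A, (∀ l, v l ∈ V) ∧ IsUnit (sqm J v).det

section

variable {A : Type v} [CommRing A] {B : Type w} [CommRing B] (φ : A →+* B) {J : Fin r ↪ Fin d}

theorem sqm_vmap (v : Fin r → Fin d → A) : sqm J (fun l => vmap φ (v l)) = φ.mapMatrix (sqm J v) := rfl

theorem det_sqm_vmap (v : Fin r → Fin d → A) : (sqm J (fun l => vmap φ (v l))).det = φ (sqm J v).det := by
  rw [sqm_vmap, φ.map_det]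

theorem Minor.map {V : Submodule A (Fin d → A)} (h : Minor J V) : Minor J (mapV φ V) := by
  obtain ⟨v, hv, hu⟩ := h
  exact ⟨fun l => vmap φ (v l), fun l => vmap_mem φ (hv l), by rw [det_sqm_vmap]; exact hu.map φ⟩

theorem eq_of_proj {V : Submodule A (Fin d → A)} (hb : IsBundle r V) (h : Minor J V) {x y : Fin d → A}
    (hx : x ∈ V) (hy : y ∈ V) (hxy : ∀ m, x (J m) = y (J m)) : x = y := by
  obtain ⟨v, hv, hu⟩ := h
  have hV := hb.eq_span J v hv hu
  rw [hV] at hx hy
  obtain ⟨a, rfl⟩ := (Submodule.mem_span_range_iff_exists_fun A).1 hx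
  obtain ⟨b, rfl⟩ := (Submodule.mem_span_range_iff_exists_fun A).1 hy
  have key : Matrix.vecMul a (sqm J v) = Matrix.vecMul b (sqm J v) := by
    funext m
    simpa [Matrix.vecMul, dotProduct, Finset.sum_apply, sqm] using hxy m
  have h2 := congrArg (fun z => Matrix.vecMul z (sqm J v)⁻¹) key
  simp only [Matrix.vecMul_vecMul, Matrix.mul_nonsing_inv _ hu, Matrix.vecMul_one] at h2
  rw [h2]

theorem exists_rows {V : Submodule A (Fin d → A)} (hb : IsBundle r V) (h : Minor J V) :
    ∃ b : Fin r → Fin d → A, (∀ l, b l ∈ V) ∧ (∀ l m, b l (J m) = (1 : Matrix (Fin r) (Fin r) A) l m) ∧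
      V = Submodule.span A (Set.range b) := by
  obtain ⟨v, hv, hu⟩ := h
  let b : Fin r → Fin d → A := fun l => ∑ j, (sqm J v)⁻¹ l j • v j
  have hb' : ∀ l, b l ∈ V := fun l => Submodule.sum_mem _ fun j _ => Submodule.smul_mem _ _ (hv j)
  have hδ : ∀ l m, b l (J m) = (1 : Matrix (Fin r) (Fin r) A) l m := fun l m => by
    rw [← Matrix.nonsing_inv_mul _ hu]
    simp [b, Matrix.mul_apply, Finset.sum_apply, sqm]
  refine ⟨b, hb', hδ, hb.eq_span J b hb' ?_⟩
  rw [show (Matrix.of fun l m => b l (J m)) = (1 : Matrix (Fin r) (Fin r) A) from Matrix.ext hδ, Matrix.det_one]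
  exact isUnit_one

theorem exists_det_ne_zero {K : Type w} [Field K] (φ : A →+* K) {V : Submodule A (Fin d → A)}
    (h : Minor J (mapV φ V)) :
    ∃ v : Fin r → Fin d → A, (∀ l, v l ∈ V) ∧ φ (sqm J v).det ≠ 0 := by
  classical
  obtain ⟨v₀, hv₀, hu⟩ := h
  let P : (Fin d → K) →ₗ[K] (Fin r → K) := LinearMap.funLeft K K J
  let fam : V → (Fin r → K) := fun x => P (vmap φ x.1)
  have htop : Submodule.span K (Set.range fam) = ⊤ := by
    have h1 : (mapV φ V).map P = Submodule.span K (Set.range fam) := by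
      rw [mapV, Submodule.map_span, ← Set.image_comp]
      congr 1
      ext y
      constructor
      · rintro ⟨x, hx, rfl⟩; exact ⟨⟨x, hx⟩, rfl⟩
      · rintro ⟨x, rfl⟩; exact ⟨x.1, x.2, rfl⟩
    rw [← h1, eq_top_iff]
    intro y _
    refine ⟨∑ l, Matrix.vecMul y (sqm J v₀)⁻¹ l • v₀ l,
      Submodule.sum_mem _ fun l _ => Submodule.smul_mem _ _ (hv₀ l), ?_⟩
    funext m
    have hrw : P (∑ l, Matrix.vecMul y (sqm J v₀)⁻¹ l • v₀ l) m =
        Matrix.vecMul (Matrix.vecMul y (sqm J v₀)⁻¹) (sqm J v₀) m := by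
      simp [P, LinearMap.funLeft_apply, Matrix.vecMul, dotProduct, Finset.sum_apply, sqm]
    rw [hrw, Matrix.vecMul_vecMul, Matrix.nonsing_inv_mul _ hu, Matrix.vecMul_one]
  obtain ⟨κ, a, -, hspan, hli⟩ := exists_linearIndependent' K fam
  haveI : Fintype κ := @Fintype.ofFinite κ hli.finite
  have hcard : Fintype.card κ = r := by
    rw [← finrank_span_eq_card hli, hspan, htop, finrank_top, finrank_fin_fun]
  let e : Fin r ≃ κ := (Fintype.equivFinOfCardEq hcard).symm
  refine ⟨fun l => (a (e l)).1, fun l => (a (e l)).2, ?_⟩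
  rw [← det_sqm_vmap]
  refine IsUnit.ne_zero ((Matrix.isUnit_iff_isUnit_det _).1 ?_)
  rw [← Matrix.linearIndependent_rows_iff_isUnit]
  exact hli.comp _ e.injective

end

section Transport

variable {R : Type u} [CommRing R] {n : ℕ} {A : Type v} [CommRing A] [Algebra R A] {B : Type w} [CommRing B]
  [Algebra R B]

theorem vmap_nF (φ : A →ₐ[R] B) (f : Fin n → ((Fin d → R) →ₗ[R] (Fin d → R))) (i : ℕ) (x : Fin d → A) :
    vmap φ.toRingHom (nF A f i x) = nF B f i (vmap φ.toRingHom x) := by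
  by_cases h : i < n
  · rw [nF_of_lt f h, nF_of_lt f h]
    exact (bc_map φ _ x).symm
  · rw [nF, dif_neg h, nF, dif_neg h]
    funext c
    simp [vmap]

variable (f g : Fin n → ((Fin d → R) →ₗ[R] (Fin d → R)))

theorem vmap_tr (φ : A →ₐ[R] B) (j i : ℕ) (x : Fin d → A) :
    vmap φ.toRingHom (tr (nF A f) (nF A g) j i x) = tr (nF B f) (nF B g) j i (vmap φ.toRingHom x) := by
  have hu : ∀ k, vmap φ.toRingHom (up (nF A f) j k x) = up (nF B f) j k (vmap φ.toRingHom x) := by
    intro k
    induction k with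
    | zero => rfl
    | succ k ih =>
      show vmap φ.toRingHom (nF A f (j + k) _) = nF B f (j + k) _
      rw [vmap_nF, ih]
  have hd : ∀ k i, vmap φ.toRingHom (down (nF A g) i k x) = down (nF B g) i k (vmap φ.toRingHom x) := by
    intro k
    induction k with
    | zero => intro i; rfl
    | succ k ih =>
      intro i
      show vmap φ.toRingHom (nF A g i _) = nF B g i _
      rw [vmap_nF, ih]
  unfold tr
  split_ifs
  · exact hu _
  · exact hd _ _

theorem IsPt.map {f g : Fin n → ((Fin d → R) →ₗ[R] (Fin d → R))} {A B : Type v} [CommRing A] [Algebra R A]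
    [CommRing B] [Algebra R B] {V : ℕ → Submodule A (Fin d → A)} (h : IsPt f g r A V) (φ : A →ₐ[R] B) :
    IsPt f g r B fun i => mapV φ.toRingHom (V i) := by
  obtain ⟨W, hW, hWV⟩ := exists_sub h
  have hb : ∀ i ≤ n, IsBundle r (mapV φ.toRingHom (V i)) := fun i hi => by
    have := isBundle_sub (fun i => Module.Grassmannian.map φ (W i)) hi
    rwa [sub_map φ W _ (fun _ => rfl) hi, hWV i hi] at this
  refine ⟨hb, fun i hi x hx => ?_, fun i hi x hx => ?_⟩
  · refine (Submodule.span_le (p := (mapV φ.toRingHom (V (i + 1))).comap (nF B f i))).2 ?_ hx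
    rintro _ ⟨y, hy, rfl⟩
    rw [SetLike.mem_coe, Submodule.mem_comap, ← vmap_nF]
    exact vmap_mem _ (h.mapF i hi y hy)
  · refine (Submodule.span_le (p := (mapV φ.toRingHom (V i)).comap (nF B g i))).2 ?_ hx
    rintro _ ⟨y, hy, rfl⟩
    rw [SetLike.mem_coe, Submodule.mem_comap, ← vmap_nF]
    exact vmap_mem _ (h.mapG i hi y hy)


end Transport

end Groth.L13.LG
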