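import Groth.Agent.L13.LG.Repr
import Groth.Agent.L13.LG.Minor
import Mathlib.RingTheory.Localization.Away.Basic

/-! Exact charts: chains spanned by transports of `r` graph vectors. -/

set_option autoImplicit false

universe u

open Module

namespace Groth.L13.LG

variable {R : Type u} [CommRing R] {d n r : ℕ} (f g : Fin n → ((Fin d → R) →ₗ[R] (Fin d → R)))

/-- free coordinates of the graph vectors -/
abbrev EVar (o : Fin r → ℕ) (J : ℕ → (Fin r ↪ Fin d)) : Type :=
  Σ l : Fin r, {c : Fin d // c ∉ Set.range (J (o l))}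

variable (o : Fin r → ℕ) (J : ℕ → (Fin r ↪ Fin d)) (p : Fin r → Fin r)


/-- transports of a tuple to index `i` -/
noncomputable def trans (A : Type u) [CommRing A] [Algebra R A] (c : Fin r → Fin d → A) (i : ℕ) :
    Fin r → Fin d → A :=
  fun l => tr (nF A f) (nF A g) (o l) i (c l)

/-- the graph vectors over the polynomial ring -/
noncomputable def evec (l : Fin r) (c : Fin d) : MvPolynomial (EVar o J) R :=
  if h : c ∈ Set.range (J (o l)) then (if J (o l) (p l) = c then (1 : MvPolynomial (EVar o J) R) else 0) else MvPolynomial.X ⟨l, c, h⟩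

/-- the product of the minors of the transports -/
noncomputable def eDelta : MvPolynomial (EVar o J) R :=
  ∏ i ∈ Finset.range (n + 1), (sqm (J i) (trans f g o (MvPolynomial (EVar o J) R) (evec (R := R) o J p) i)).det

/-- the ring of the exact chart -/
abbrev ERing : Type u := Localization.Away (eDelta f g o J p)

/-- the universal graph vectors -/
noncomputable def euniv (l : Fin r) : Fin d → ERing f g o J p :=
  vmap (algebraMap _ _) (evec (R := R) o J p l)

/-- chains with a frame of graph vectors -/
def EGood (A : Type u) [CommRing A] [Algebra R A] (V : ℕ → Submodule A (Fin d → A)) : Prop :=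
  ∃ c : Fin r → Fin d → A, (∀ l, c l ∈ V (o l) ∧ ∀ m, c l (J (o l) m) = if p l = m then 1 else 0) ∧
    ∀ i ≤ n, IsUnit (sqm (J i) (trans f g o A c i)).det

variable {f g o J p}

theorem vmap_trans {A B : Type u} [CommRing A] [Algebra R A] [CommRing B] [Algebra R B] (φ : A →ₐ[R] B)
    (c : Fin r → Fin d → A) (i : ℕ) :
    (fun l => vmap φ.toRingHom (trans f g o A c i l)) = trans f g o B (fun l => vmap φ.toRingHom (c l)) i :=
  funext fun _ => vmap_tr f g φ _ _ _

theorem EGood.minor {A : Type u} [CommRing A] [Algebra R A] {V : ℕ → Submodule A (Fin d → A)}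
    (ho : ∀ l, o l ≤ n) (hpt : IsPt f g r A V) (h : EGood f g o J p A V) {i : ℕ} (hi : i ≤ n) :
    Minor (J i) (V i) := by
  obtain ⟨c, hc, hu⟩ := h
  exact ⟨trans f g o A c i,
    fun l => tr_mem (fun i h => ⟨hpt.mapF i h, hpt.mapG i h⟩) (ho l) hi (hc l).1, hu i hi⟩

theorem evec_proj (l m : Fin r) : evec (R := R) o J p l (J (o l) m) = if p l = m then 1 else 0 := by
  rw [evec, dif_pos ⟨m, rfl⟩]
  simp [(J (o l)).injective.eq_iff]

theorem isUnit_euniv {i : ℕ} (hi : i ≤ n) :
    IsUnit (sqm (J i) (trans f g o (ERing f g o J p) (euniv f g o J p) i)).det := by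
  let ψ : MvPolynomial (EVar o J) R →ₐ[R] ERing f g o J p := IsScalarTower.toAlgHom R _ _
  have e : trans f g o (ERing f g o J p) (euniv f g o J p) i =
      fun l => vmap ψ.toRingHom (trans f g o _ (evec (R := R) o J p) i l) :=
    (vmap_trans (f := f) (g := g) (o := o) ψ (evec (R := R) o J p) i).symm
  rw [e, det_sqm_vmap]
  refine isUnit_of_dvd_unit (map_dvd _ ?_) (IsLocalization.Away.algebraMap_isUnit (S := ERing f g o J p) (eDelta f g o J p))
  exact Finset.dvd_prod_of_mem _ (Finset.mem_range.2 (by omega))

theorem isPt_euniv {s : R} (hI : ∀ i, (f i).comp (g i) = s • LinearMap.id ∧ (g i).comp (f i) = s • LinearMap.id)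
    {A : Type u} [CommRing A] [Algebra R A] (c : Fin r → Fin d → A)
    (hu : ∀ i ≤ n, IsUnit (sqm (J i) (trans f g o A c i)).det) :
    IsPt f g r A fun i => Submodule.span A (Set.range (trans f g o A c i)) := by
  have hL : Linked (nF A f) (nF A g) n (algebraMap R A s) := linked_nF hI
  refine ⟨fun i hi => isBundle_of_minor (J i) _ (hu i hi), fun i hi x hx => ?_, fun i hi x hx => ?_⟩
  · refine (Submodule.span_le.2 ?_ : Submodule.span A (Set.range (trans f g o A c i)) ≤
      (Submodule.span A (Set.range (trans f g o A c (i + 1)))).comap (nF A f i)) hx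
    rintro _ ⟨l, rfl⟩
    show nF A f i _ ∈ Submodule.span A (Set.range (trans f g o A c (i + 1)))
    rw [trans, F_tr hL hi]
    exact Submodule.smul_mem _ _ (Submodule.subset_span ⟨l, rfl⟩)
  · refine (Submodule.span_le.2 ?_ : Submodule.span A (Set.range (trans f g o A c (i + 1))) ≤
      (Submodule.span A (Set.range (trans f g o A c i))).comap (nF A g i)) hx
    rintro _ ⟨l, rfl⟩
    show nF A g i _ ∈ Submodule.span A (Set.range (trans f g o A c i))
    rw [trans, G_tr hL hi]
    exact Submodule.smul_mem _ _ (Submodule.subset_span ⟨l, rfl⟩)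

/-- the exact chart -/
noncomputable def chartE (f g : Fin n → ((Fin d → R) →ₗ[R] (Fin d → R))) (o : Fin r → ℕ) (ho : ∀ l, o l ≤ n)
    (J : ℕ → (Fin r ↪ Fin d)) (p : Fin r → Fin r) {s : R}
    (hI : ∀ i, (f i).comp (g i) = s • LinearMap.id ∧ (g i).comp (f i) = s • LinearMap.id) :
    ChartData r f g where
  B := CommAlgCat.of R (ERing f g o J p)
  W i := Submodule.span _ (Set.range (trans f g o (ERing f g o J p) (euniv f g o J p) i))
  isPt := isPt_euniv hI _ fun _ => isUnit_euniv
  good A V := EGood f g o J p A V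
  good_congr := by
    rintro A V V' h ⟨c, hc, hu⟩
    exact ⟨c, fun l => ⟨h (o l) (ho l) ▸ (hc l).1, (hc l).2⟩, hu⟩
  good_univ := by
    refine ⟨euniv f g o J p, fun l => ⟨Submodule.subset_span ⟨l, tr_self _ _ _ _⟩, fun m => ?_⟩, fun i hi => isUnit_euniv hi⟩
    show algebraMap _ (ERing f g o J p) (evec (R := R) o J p l _) = _
    rw [evec_proj]
    split_ifs <;> simp
  good_map := by
    rintro A A' φ V ⟨c, hc, hu⟩
    refine ⟨fun l => vmap φ.toRingHom (c l), fun l => ⟨vmap_mem _ (hc l).1, fun m => ?_⟩, fun i hi => ?_⟩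
    · show φ (c l (J (o l) m)) = _
      rw [(hc l).2 m]
      split_ifs <;> simp
    · rw [← vmap_trans φ c i, det_sqm_vmap]
      exact (hu i hi).map _
  good_local := by
    classical
    intro A K hK φ V hpt hgood
    letI := hK.toField
    obtain ⟨cK, hcK, huK⟩ := hgood
    have hK' := hpt.map φ
    have hptK : ∀ i ≤ n, Minor (J i) (mapV φ.toRingHom (V i)) := fun i hi =>
      EGood.minor (f := f) (g := g) (o := o) (p := p) ho hK' ⟨cK, hcK, huK⟩ hi
    choose v hv hdet using fun i : Fin (n + 1) => exists_det_ne_zero φ.toRingHom (hptK i.1 (by omega))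
    let io : Fin r → Fin (n + 1) := fun l => ⟨o l, Nat.lt_succ_of_le (ho l)⟩
    -- the graph vectors scaled by the minors
    let c' : Fin r → Fin d → A := fun l => ∑ j, (sqm (J (o l)) (v (io l))).adjugate (p l) j • v (io l) j
    have hc'V : ∀ l, c' l ∈ V (o l) := fun l => Submodule.sum_mem _ fun j _ => Submodule.smul_mem _ _ (hv (io l) j)
    have hc'δ : ∀ l m, c' l (J (o l) m) = (sqm (J (o l)) (v (io l))).det * if p l = m then 1 else 0 := by
      intro l m
      have h : c' l (J (o l) m) = ((sqm (J (o l)) (v (io l))).adjugate * sqm (J (o l)) (v (io l))) (p l) m := by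
        simp [c', Matrix.mul_apply, Finset.sum_apply, sqm]
      rw [h, Matrix.adjugate_mul]
      simp [Matrix.one_apply]
    have hφc : ∀ l, vmap φ.toRingHom (c' l) = φ.toRingHom (sqm (J (o l)) (v (io l))).det • cK l := by
      intro l
      refine eq_of_proj (J := J (o l)) (hK'.bundle _ (ho l)) (hptK _ (ho l)) (vmap_mem _ (hc'V l))
        (Submodule.smul_mem _ _ (hcK l).1) fun m => ?_
      show φ.toRingHom (c' l _) = φ.toRingHom _ * cK l _
      rw [hc'δ, (hcK l).2, map_mul]
      split_ifs <;> simp
    let h := (∏ i, (sqm (J i.1) (v i)).det) * ∏ i ∈ Finset.range (n + 1), (sqm (J i) (trans f g o A c' i)).det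
    refine ⟨h, ?_, ?_⟩
    · show φ.toRingHom h ≠ 0
      rw [map_mul, map_prod, map_prod]
      refine mul_ne_zero (Finset.prod_ne_zero_iff.2 fun i _ => hdet i) (Finset.prod_ne_zero_iff.2 fun i hi => ?_)
      rw [← det_sqm_vmap, vmap_trans φ c' i]
      have e : sqm (J i) (trans f g o K (fun l => vmap φ.toRingHom (c' l)) i) =
          Matrix.of (fun l m => φ.toRingHom (sqm (J (o l)) (v (io l))).det * sqm (J i) (trans f g o K cK i) l m) := by
        ext l m
        show tr (nF K f) (nF K g) (o l) i (vmap φ.toRingHom (c' l)) (J i m) = _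
        rw [hφc, map_smul]
        rfl
      rw [e, Matrix.det_mul_column]
      exact mul_ne_zero (Finset.prod_ne_zero_iff.2 fun l _ => hdet (io l))
        (huK i (by simp at hi; omega)).ne_zero
    · have hh : IsUnit (algebraMap A (Localization.Away h) h) := IsLocalization.Away.algebraMap_isUnit h
      let ψ : A →ₐ[R] Localization.Away h := IsScalarTower.toAlgHom R A _
      have hd : ∀ l, IsUnit (algebraMap A (Localization.Away h) (sqm (J (o l)) (v (io l))).det) := fun l =>
        isUnit_of_dvd_unit (map_dvd _ (dvd_mul_of_dvd_left (Finset.dvd_prod_of_mem _ (Finset.mem_univ (io l))) _)) hh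
      choose q hq using hd
      refine ⟨fun l => ((q l)⁻¹ : (Localization.Away h)ˣ).1 • vmap ψ.toRingHom (c' l),
        fun l => ⟨Submodule.smul_mem _ _ (vmap_mem _ (hc'V l)), fun m => ?_⟩, fun i hi => ?_⟩
      · show _ * algebraMap A (Localization.Away h) (c' l _) = _
        rw [hc'δ, map_mul, ← mul_assoc, ← hq, Units.inv_mul, one_mul]
        split_ifs <;> simp
      · have e : sqm (J i) (trans f g o (Localization.Away h)
            (fun l => ((q l)⁻¹ : (Localization.Away h)ˣ).1 • vmap ψ.toRingHom (c' l)) i) =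
            Matrix.of (fun l m => ((q l)⁻¹ : (Localization.Away h)ˣ).1 *
              sqm (J i) (fun l => vmap ψ.toRingHom (trans f g o A c' i l)) l m) := by
          ext l m
          show tr (nF (Localization.Away h) f) (nF (Localization.Away h) g) (o l) i (_ • vmap ψ.toRingHom (c' l)) (J i m) = _
          rw [map_smul, ← vmap_tr f g ψ]
          rfl
        show IsUnit (sqm (J i) (trans f g o (Localization.Away h) _ i)).det
        rw [e, Matrix.det_mul_column, IsUnit.mul_iff]
        refine ⟨IsUnit.prod_iff.2 fun l _ => Units.isUnit _, ?_⟩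
        rw [show (Matrix.det fun l m => sqm (J i) (fun l => vmap ψ.toRingHom (trans f g o A c' i l)) l m) =
          (sqm (J i) fun l => vmap ψ.toRingHom (trans f g o A c' i l)).det from rfl, det_sqm_vmap]
        exact isUnit_of_dvd_unit (map_dvd _ (dvd_mul_of_dvd_right
          (Finset.dvd_prod_of_mem (fun i => (sqm (J i) (trans f g o A c' i)).det)
            (Finset.mem_range.2 (show i < n + 1 by omega))) _)) hh
  hom_exists := by
    intro A V hpt ⟨c, hc, hu⟩
    let ψ : MvPolynomial (EVar o J) R →ₐ[R] A := MvPolynomial.aeval fun v => c v.1 v.2.1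
    have hψ : ∀ l, vmap ψ.toRingHom (evec (R := R) o J p l) = c l := by
      intro l
      funext j
      show ψ (evec (R := R) o J p l j) = _
      by_cases hj : j ∈ Set.range (J (o l))
      · obtain ⟨m, rfl⟩ := hj
        rw [evec_proj, (hc l).2 m]
        split_ifs <;> simp
      · rw [evec, dif_neg hj]
        simp [ψ]
    have hΔ : IsUnit (ψ (eDelta f g o J p)) := by
      show IsUnit (ψ.toRingHom (eDelta f g o J p))
      rw [eDelta, map_prod]
      refine IsUnit.prod_iff.2 fun i hi => ?_
      rw [← det_sqm_vmap, vmap_trans ψ, funext hψ]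
      exact hu i (by simp at hi; omega)
    let χ : ERing f g o J p →ₐ[R] A :=
      IsLocalization.liftAlgHom (M := Submonoid.powers (eDelta f g o J p)) (f := ψ) (by
        rintro ⟨_, k, rfl⟩
        rw [map_pow]
        exact hΔ.pow k)
    have hχ : ∀ l, vmap χ.toRingHom (euniv f g o J p l) = c l := fun l => by
      rw [← hψ l]
      funext j
      exact IsLocalization.lift_eq _ _
    refine ⟨χ, fun i hi => ?_⟩
    rw [mapV_span, ← Set.range_comp, show vmap χ.toRingHom ∘ trans f g o _ (euniv f g o J p) i = trans f g o A c i by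
      rw [← funext hχ]; exact vmap_trans χ _ i]
    exact ((hpt.bundle i hi).eq_span (J i) _
      (fun l => tr_mem (fun i h => ⟨hpt.mapF i h, hpt.mapG i h⟩) (ho l) hi (hc l).1) (hu i hi)).symm
  hom_unique := by
    intro A φ ψ h
    have key : ∀ (χ : ERing f g o J p →ₐ[R] A), ∀ i ≤ n,
        IsBundle r (mapV χ.toRingHom (Submodule.span _ (Set.range (trans f g o (ERing f g o J p) (euniv f g o J p) i)))) ∧
        Minor (J i) (mapV χ.toRingHom (Submodule.span _ (Set.range (trans f g o (ERing f g o J p) (euniv f g o J p) i)))) := by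
      intro χ i hi
      have hu : IsUnit (sqm (J i) fun l => vmap χ.toRingHom (trans f g o _ (euniv f g o J p) i l)).det := by
        rw [det_sqm_vmap]; exact (isUnit_euniv hi).map _
      rw [mapV_span, ← Set.range_comp]
      exact ⟨isBundle_of_minor (J i) _ hu, _, fun l => Submodule.subset_span ⟨l, rfl⟩, hu⟩
    have hvec : ∀ l, vmap φ.toRingHom (euniv f g o J p l) = vmap ψ.toRingHom (euniv f g o J p l) := by
      intro l
      obtain ⟨hb, hm⟩ := key φ (o l) (ho l)
      refine eq_of_proj hb hm (vmap_mem _ (Submodule.subset_span ⟨l, tr_self _ _ _ _⟩)) ?_ fun m => ?_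
      · have := h (o l) (ho l)
        rw [this]
        exact vmap_mem _ (Submodule.subset_span ⟨l, tr_self _ _ _ _⟩)
      · show φ (algebraMap _ (ERing f g o J p) (evec (R := R) o J p l _)) = ψ (algebraMap _ (ERing f g o J p) (evec (R := R) o J p l _))
        rw [evec_proj]
        split_ifs <;> simp
    refine IsLocalization.algHom_ext (Submonoid.powers (eDelta f g o J p)) (MvPolynomial.algHom_ext fun v => ?_)
    have := congrFun (hvec v.1) v.2.1
    simp only [euniv, vmap] at this
    rw [show evec (R := R) o J p v.1 v.2.1 = MvPolynomial.X v from dif_neg v.2.2] at this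
    exact this

end Groth.L13.LG
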