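import Groth.Agent.L13.LG.Repr
import Groth.Agent.L13.LG.Minor
import Mathlib.RingTheory.FinitePresentation

/-! Coordinate charts: chains with prescribed invertible minors, cut out of affine space by finitely many equations. -/

set_option autoImplicit false

universe u

open Module

namespace Groth.L13.LG

variable {R : Type u} [CommRing R] {d n r : ℕ}

/-- coordinates of the row tuples -/
abbrev WVar (d n r : ℕ) : Type := Fin (n + 1) × Fin r × Fin d

/-- the row tuples over an algebra -/
def wrow {A : Type u} (a : WVar d n r → A) (i : ℕ) : Fin r → Fin d → A :=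
  fun l c => a (⟨min i n, by omega⟩, l, c)

variable (f g : Fin n → ((Fin d → R) →ₗ[R] (Fin d → R))) (J : ℕ → (Fin r ↪ Fin d))

/-- the equations of the chart evaluated at coordinates -/
noncomputable def weqn {A : Type u} [CommRing A] [Algebra R A] (a : WVar d n r → A) :
    (Fin (n + 1) × Fin r × Fin r) ⊕ (Fin n × Fin r × Fin d) ⊕ (Fin n × Fin r × Fin d) → A
  | .inl (i, l, m) => wrow a i l (J i m) - (1 : Matrix (Fin r) (Fin r) A) l m
  | .inr (.inl (i, l, c)) => nF A f i (wrow a i l) c -
      (∑ m, nF A f i (wrow a i l) (J (i + 1) m) • wrow a (i + 1) m) c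
  | .inr (.inr (i, l, c)) => nF A g i (wrow a (i + 1) l) c -
      (∑ m, nF A g i (wrow a (i + 1) l) (J i m) • wrow a i m) c

/-- the ideal of the chart -/
noncomputable def wideal : Ideal (MvPolynomial (WVar d n r) R) :=
  Ideal.span (Set.range (weqn f g J (MvPolynomial.X : WVar d n r → MvPolynomial (WVar d n r) R)))

/-- the ring of the chart -/
abbrev WRing : Type u := MvPolynomial (WVar d n r) R ⧸ wideal f g J

/-- the universal coordinates -/
noncomputable def wuniv : WVar d n r → WRing f g J := fun v => Ideal.Quotient.mk _ (MvPolynomial.X v)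

variable {f g J}

theorem wrow_comp {A B : Type u} [CommRing A] [CommRing B] (φ : A →+* B) (a : WVar d n r → A) (i : ℕ) (l : Fin r) :
    vmap φ (wrow a i l) = wrow (φ ∘ a) i l := rfl

theorem map_weqn {A B : Type u} [CommRing A] [Algebra R A] [CommRing B] [Algebra R B] (φ : A →ₐ[R] B)
    (a : WVar d n r → A) (e) : φ (weqn f g J a e) = weqn f g J (φ ∘ a) e := by
  have key : ∀ (h : Fin n → ((Fin d → R) →ₗ[R] (Fin d → R))) (i : ℕ) (x : Fin d → A) (c : Fin d),
      φ (nF A h i x c) = nF B h i (vmap φ.toRingHom x) c := fun h i x c => congrFun (vmap_nF φ h i x) c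
  rcases e with ⟨i, l, m⟩ | ⟨i, l, c⟩ | ⟨i, l, c⟩
  · simp only [weqn, map_sub, Matrix.one_apply]
    congr 1
    split_ifs <;> simp
  · simp only [weqn, map_sub, Finset.sum_apply, map_sum, Pi.smul_apply, smul_eq_mul, map_mul, key]
    rfl
  · simp only [weqn, map_sub, Finset.sum_apply, map_sum, Pi.smul_apply, smul_eq_mul, map_mul, key]
    rfl

theorem weqn_wuniv (e) : weqn f g J (wuniv f g J) e = 0 := by
  have h := map_weqn (f := f) (g := g) (J := J) (Ideal.Quotient.mkₐ R (wideal f g J)) MvPolynomial.X e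
  rw [show wuniv f g J = Ideal.Quotient.mkₐ R (wideal f g J) ∘ MvPolynomial.X from rfl, ← h,
    Ideal.Quotient.mkₐ_eq_mk, Ideal.Quotient.eq_zero_iff_mem]
  exact Ideal.subset_span ⟨e, rfl⟩

theorem wrow_proj {A : Type u} [CommRing A] [Algebra R A] {a : WVar d n r → A} (h : ∀ e, weqn f g J a e = 0)
    {i : ℕ} (hi : i ≤ n) (l m : Fin r) : wrow a i l (J i m) = (1 : Matrix (Fin r) (Fin r) A) l m := by
  have := h (.inl (⟨i, by omega⟩, l, m))
  simpa [weqn, sub_eq_zero] using this

theorem isUnit_wrow {A : Type u} [CommRing A] [Algebra R A] {a : WVar d n r → A} (h : ∀ e, weqn f g J a e = 0)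
    {i : ℕ} (hi : i ≤ n) : IsUnit (sqm (J i) (wrow a i)).det := by
  rw [show sqm (J i) (wrow a i) = 1 from Matrix.ext (wrow_proj h hi), Matrix.det_one]
  exact isUnit_one

theorem isPt_wrow {A : Type u} [CommRing A] [Algebra R A] {a : WVar d n r → A} (h : ∀ e, weqn f g J a e = 0) :
    IsPt f g r A fun i => Submodule.span A (Set.range (wrow a i)) := by
  refine ⟨fun i hi => isBundle_of_minor (J i) _ (isUnit_wrow h hi), fun i hi x hx => ?_, fun i hi x hx => ?_⟩
  · refine (Submodule.span_le (p := (Submodule.span A (Set.range (wrow a (i + 1)))).comap (nF A f i))).2 ?_ hx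
    rintro _ ⟨l, rfl⟩
    rw [SetLike.mem_coe, Submodule.mem_comap]
    refine (Submodule.mem_span_range_iff_exists_fun A).2 ⟨fun m => nF A f i (wrow a i l) (J (i + 1) m), ?_⟩
    funext c
    exact (sub_eq_zero.1 (h (.inr (.inl (⟨i, hi⟩, l, c))))).symm
  · refine (Submodule.span_le (p := (Submodule.span A (Set.range (wrow a i))).comap (nF A g i))).2 ?_ hx
    rintro _ ⟨l, rfl⟩
    rw [SetLike.mem_coe, Submodule.mem_comap]
    refine (Submodule.mem_span_range_iff_exists_fun A).2 ⟨fun m => nF A g i (wrow a (i + 1) l) (J i m), ?_⟩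
    funext c
    exact (sub_eq_zero.1 (h (.inr (.inr (⟨i, hi⟩, l, c))))).symm

/-- the coordinate chart -/
noncomputable def chartW (f g : Fin n → ((Fin d → R) →ₗ[R] (Fin d → R))) (J : ℕ → (Fin r ↪ Fin d)) :
    ChartData r f g where
  B := CommAlgCat.of R (WRing f g J)
  W i := Submodule.span _ (Set.range (wrow (wuniv f g J) i))
  isPt := isPt_wrow weqn_wuniv
  good A V := ∀ i ≤ n, Minor (J i) (V i)
  good_congr h hg i hi := h i hi ▸ hg i hi
  good_univ i hi := ⟨_, fun l => Submodule.subset_span ⟨l, rfl⟩, isUnit_wrow weqn_wuniv hi⟩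
  good_map φ _ hg i hi := (hg i hi).map _
  good_local := by
    intro A K hK φ V hpt hgood
    letI := hK.toField
    choose v hv hdet using fun i : Fin (n + 1) => exists_det_ne_zero φ.toRingHom (hgood i.1 (by omega))
    let h := ∏ i, (sqm (J i.1) (v i)).det
    refine ⟨h, ?_, fun i hi => ⟨fun l => vmap (algebraMap A (Localization.Away h)) (v ⟨i, by omega⟩ l),
      fun l => vmap_mem _ (hv ⟨i, by omega⟩ l), ?_⟩⟩
    · show φ.toRingHom h ≠ 0
      rw [map_prod]
      exact Finset.prod_ne_zero_iff.2 fun i _ => hdet i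
    · show IsUnit (sqm (J i) fun l => vmap (algebraMap A (Localization.Away h)) (v ⟨i, by omega⟩ l)).det
      rw [det_sqm_vmap]
      exact isUnit_of_dvd_unit
        (map_dvd _ (Finset.dvd_prod_of_mem (fun i : Fin (n + 1) => (sqm (J i.1) (v i)).det) (Finset.mem_univ (⟨i, by omega⟩ : Fin (n + 1)))))
        (IsLocalization.Away.algebraMap_isUnit h)
  hom_exists := by
    intro A V hpt hgood
    choose b hbV hbδ hbspan using fun i : Fin (n + 1) =>
      exists_rows (hpt.bundle i.1 (by omega)) (hgood i.1 (by omega))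
    let a : WVar d n r → A := fun v => b v.1 v.2.1 v.2.2
    have hrow : ∀ i (hi : i ≤ n), wrow a i = b ⟨i, by omega⟩ := fun i hi => by
      funext l c
      exact congrArg (fun j : Fin (n + 1) => b j l c) (Fin.ext (min_eq_left hi))
    have hlink : ∀ (i : ℕ) (hi : i ≤ n) (x : Fin d → A), x ∈ V i →
        x = ∑ m, x (J i m) • b ⟨i, by omega⟩ m := by
      intro i hi x hx
      refine eq_of_proj (hpt.bundle i hi) (hgood i hi) hx
        (Submodule.sum_mem _ fun m _ => Submodule.smul_mem _ _ (hbV ⟨i, by omega⟩ m)) fun m => ?_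
      simp [Finset.sum_apply, hbδ ⟨i, by omega⟩, Matrix.one_apply]
    have h0 : ∀ e, weqn f g J a e = 0 := by
      rintro (⟨i, l, m⟩ | ⟨i, l, c⟩ | ⟨i, l, c⟩)
      · show wrow a i.1 l _ - _ = 0
        rw [hrow i.1 (by omega), hbδ, sub_self]
      · show _ - _ = (0 : A)
        rw [sub_eq_zero, hrow i.1 (by omega), hrow (i.1 + 1) i.2]
        exact congrFun (hlink (i.1 + 1) i.2 _ (hpt.mapF i.1 i.2 _ (hbV ⟨i.1, by omega⟩ l))) c
      · show _ - _ = (0 : A)
        rw [sub_eq_zero, hrow i.1 (by omega), hrow (i.1 + 1) i.2]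
        exact congrFun (hlink i.1 (by omega) _ (hpt.mapG i.1 i.2 _ (hbV ⟨i.1 + 1, by omega⟩ l))) c
    let χ : WRing f g J →ₐ[R] A := Ideal.Quotient.liftₐ _ (MvPolynomial.aeval a) (by
      intro x hx
      refine (RingHom.mem_ker (f := (MvPolynomial.aeval a : MvPolynomial (WVar d n r) R →ₐ[R] A).toRingHom)).1 ?_
      refine Ideal.span_le.2 ?_ hx
      rintro _ ⟨e, rfl⟩
      show MvPolynomial.aeval a (weqn f g J MvPolynomial.X e) = 0
      rw [map_weqn, show (MvPolynomial.aeval a : MvPolynomial (WVar d n r) R →ₐ[R] A) ∘ MvPolynomial.X = a from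
        funext fun v => MvPolynomial.aeval_X _ _, h0])
    have hχ : χ.toRingHom ∘ wuniv f g J = a := funext fun v => by
      show χ (Ideal.Quotient.mk _ (MvPolynomial.X v)) = _
      exact MvPolynomial.aeval_X _ _
    refine ⟨χ, fun i hi => ?_⟩
    rw [mapV_span, ← Set.range_comp,
      show vmap χ.toRingHom ∘ wrow (wuniv f g J) i = wrow (χ.toRingHom ∘ wuniv f g J) i from rfl, hχ, hrow i hi]
    exact (hbspan _).symm
  hom_unique := by
    intro A φ ψ h
    refine Ideal.Quotient.algHom_ext _ (MvPolynomial.algHom_ext fun v => ?_)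
    obtain ⟨i, l, c⟩ := v
    have hi : i.1 ≤ n := by omega
    have hb : ∀ χ : WRing f g J →ₐ[R] A, IsUnit (sqm (J i.1) fun l => vmap χ.toRingHom (wrow (wuniv f g J) i.1 l)).det :=
      fun χ => by rw [det_sqm_vmap]; exact (isUnit_wrow weqn_wuniv hi).map _
    have key : vmap φ.toRingHom (wrow (wuniv f g J) i.1 l) = vmap ψ.toRingHom (wrow (wuniv f g J) i.1 l) := by
      have hm := vmap_mem φ.toRingHom
        (Submodule.subset_span ⟨l, rfl⟩ : wrow (wuniv f g J) i.1 l ∈ Submodule.span _ (Set.range (wrow (wuniv f g J) i.1)))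
      have hm' := vmap_mem ψ.toRingHom
        (Submodule.subset_span ⟨l, rfl⟩ : wrow (wuniv f g J) i.1 l ∈ Submodule.span _ (Set.range (wrow (wuniv f g J) i.1)))
      rw [← h i.1 hi] at hm'
      rw [mapV_span, ← Set.range_comp] at hm hm'
      refine eq_of_proj (J := J i.1) (isBundle_of_minor (J i.1) _ (hb φ))
        ⟨_, fun l => Submodule.subset_span ⟨l, rfl⟩, hb φ⟩ hm hm' fun m => ?_
      show φ (wrow (wuniv f g J) i.1 l (J i.1 m)) = ψ (wrow (wuniv f g J) i.1 l (J i.1 m))
      rw [wrow_proj weqn_wuniv hi, Matrix.one_apply]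
      split_ifs <;> simp
    have := congrFun key c
    have e : (⟨min i.1 n, by omega⟩ : Fin (n + 1)) = i := Fin.ext (min_eq_left hi)
    simp only [vmap, wrow, e] at this
    exact this

theorem wring_finitePresentation : Algebra.FinitePresentation R (WRing f g J) :=
  Algebra.FinitePresentation.quotient (Submodule.fg_span (Set.finite_range _))

end Groth.L13.LG
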