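import Groth.Agent.L13.LG.Generic
import Mathlib.Algebra.Polynomial.AlgebraMap

/-! One-parameter deformations of non-exact chains. -/

set_option autoImplicit false

universe u

open AlgebraicGeometry CategoryTheory Module Polynomial

namespace Groth.L13.LG

variable {R : Type u} [CommRing R] {d n r : ℕ} {f g : Fin n → ((Fin d → R) →ₗ[R] (Fin d → R))}

namespace Rep

variable (D : Rep r f g) {K : Type u} [Field K] [Algebra R K]

/-- a family over the affine line specialising to a point gives a framed generisation -/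
theorem exists_frame_of_family (hrd : r ≤ d) {x : Over.mk (str (CommAlgCat.of R K)) ⟶ D.X} {p : D.X.left}
    (hp : p ∈ Set.range x.left) {o : Fin r → ℕ} (ho : ∀ l, o l ≤ n) (c : Fin r → Fin d → K[X])
    (b : ℕ → Fin r → Fin d → K[X])
    (hspan : ∀ i ≤ n, Submodule.span K (Set.range fun l => vmap (evalRingHom 0) (b i l)) = D.val x i)
    (hF : ∀ i < n, ∀ l, ∃ a : K[X], nF K[X] f i (b i l) = a • b (i + 1) l)
    (hG : ∀ i < n, ∀ l, ∃ a : K[X], nF K[X] g i (b (i + 1) l) = a • b i l)
    (htr : ∀ i ≤ n, ∀ l, ∃ a : K[X], a ≠ 0 ∧ trans f g o K[X] c i l = a • b i l) :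
    ∃ q, q ⤳ p ∧ D.HasFrame q o := by
  let ev : K[X] →ₐ[R] K := (aeval (0 : K)).restrictScalars R
  have hev : ev.toRingHom = evalRingHom 0 := RingHom.ext fun q => congrFun (coe_aeval_eq_eval (0 : K)) q
  let 𝔭 : Ideal K[X] := RingHom.ker ev.toRingHom
  haveI : 𝔭.IsPrime := RingHom.ker_isPrime _
  let O : Type u := Localization.AtPrime 𝔭
  let L : Type u := FractionRing K[X]
  let toO : K[X] →ₐ[R] O := IsScalarTower.toAlgHom R _ _
  let toL : K[X] →ₐ[R] L := IsScalarTower.toAlgHom R _ _
  let ι : O →ₐ[R] L := IsLocalization.liftAlgHom (M := 𝔭.primeCompl) (f := toL)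
    (fun y => isUnit_iff_ne_zero.2 fun h0 => y.2 (by
      have h1 : (y : K[X]) = 0 := IsFractionRing.injective K[X] L (h0.trans (map_zero _).symm)
      rw [h1]; exact zero_mem _))
  let evO : O →ₐ[R] K :=
    IsLocalization.liftAlgHom (M := 𝔭.primeCompl) (f := ev) (fun y => isUnit_iff_ne_zero.2 fun h0 => y.2 h0)
  let bO : ℕ → Fin r → Fin d → O := fun i l => vmap toO.toRingHom (b i l)
  have hιb : ∀ i l, vmap ι.toRingHom (bO i l) = vmap toL.toRingHom (b i l) := fun i l =>
    funext fun j => IsLocalization.lift_eq _ _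
  have hevb : ∀ i l, vmap evO.toRingHom (bO i l) = vmap (evalRingHom 0) (b i l) := fun i l => by
    rw [← hev]; exact funext fun j => IsLocalization.lift_eq _ _
  have hch := chain_of_isPt hrd (D.isPt_val x)
  have hminor : ∀ i ≤ n, ∃ J : Fin r ↪ Fin d, IsUnit (sqm J (bO i)).det := by
    intro i hi
    have hli : LinearIndependent K fun l => vmap (evalRingHom 0) (b i l) := by
      rw [linearIndependent_iff_card_eq_finrank_span, Set.finrank, hspan i hi, hch.rank i hi, Fintype.card_fin]
    obtain ⟨J, hJ⟩ := exists_minor _ hli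
    refine ⟨J, ?_⟩
    rw [det_sqm_vmap]
    refine IsLocalization.map_units O (⟨(sqm J (b i)).det, ?_⟩ : 𝔭.primeCompl)
    show ¬ ev.toRingHom (sqm J (b i)).det = 0
    rw [hev, ← det_sqm_vmap]
    exact hJ.ne_zero
  have hpt : IsPt f g r O fun i => Submodule.span O (Set.range (bO i)) := by
    refine ⟨fun i hi => ?_, fun i hi y hy => ?_, fun i hi y hy => ?_⟩
    · obtain ⟨J, hJ⟩ := hminor i hi
      exact isBundle_of_minor J _ hJ
    · refine (Submodule.span_le (p := (Submodule.span O (Set.range (bO (i + 1)))).comap (nF O f i))).2 ?_ hy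
      rintro _ ⟨l, rfl⟩
      obtain ⟨a, ha⟩ := hF i hi l
      rw [SetLike.mem_coe, Submodule.mem_comap, ← vmap_nF, ha, vmap_smul]
      exact Submodule.smul_mem _ _ (Submodule.subset_span ⟨l, rfl⟩)
    · refine (Submodule.span_le (p := (Submodule.span O (Set.range (bO i))).comap (nF O g i))).2 ?_ hy
      rintro _ ⟨l, rfl⟩
      obtain ⟨a, ha⟩ := hG i hi l
      rw [SetLike.mem_coe, Submodule.mem_comap, ← vmap_nF, ha, vmap_smul]
      exact Submodule.smul_mem _ _ (Submodule.subset_span ⟨l, rfl⟩)
  obtain ⟨z, hz⟩ := D.exists_pt (A := CommAlgCat.of R L) (hpt.map ι)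
  let pt0 : Spec (CommRingCat.of L) := (⟨⊥, Ideal.isPrime_bot⟩ : PrimeSpectrum L)
  refine ⟨z.left pt0, ?_, L, inferInstance, inferInstance, z, fun l => vmap toL.toRingHom (c l), ⟨pt0, rfl⟩,
    Fintype.card_fin r, ho, fun i hi => ?_⟩
  · refine D.specializes (O := CommAlgCat.of R O) (K := CommAlgCat.of R L) (k := CommAlgCat.of R K)
      (Field.toIsField _) (Field.toIsField _) ι evO ?_ hpt z x (fun i hi => hz i hi) ?_ ⟨pt0, rfl⟩ hp
    · refine le_antisymm (IsLocalRing.le_maximalIdeal (RingHom.ker_ne_top _)) ?_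
      show IsLocalRing.maximalIdeal O ≤ RingHom.ker evO.toRingHom
      rw [← IsLocalization.AtPrime.map_eq_maximalIdeal 𝔭 O, Ideal.map_le_iff_le_comap]
      intro y hy
      show evO.toRingHom (algebraMap K[X] O y) = 0
      exact (IsLocalization.lift_eq _ _).trans hy
    · intro i hi
      rw [mapV_span, ← Set.range_comp, show vmap evO.toRingHom ∘ bO i = fun l => vmap (evalRingHom 0) (b i l) from
        funext (hevb i), hspan i hi]
  · rw [hz i hi, mapV_span, ← Set.range_comp, show vmap ι.toRingHom ∘ bO i = fun l => vmap toL.toRingHom (b i l) from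
      funext (hιb i)]
    refine le_antisymm (Submodule.span_le.2 ?_) (Submodule.span_le.2 ?_) <;> rintro _ ⟨l, rfl⟩ <;>
      obtain ⟨a, ha0, ha⟩ := htr i hi l
    · show tr (nF L f) (nF L g) (o l) i (vmap toL.toRingHom (c l)) ∈ _
      rw [← vmap_tr f g toL, show tr (nF K[X] f) (nF K[X] g) (o l) i (c l) = a • b i l from ha, vmap_smul]
      exact Submodule.smul_mem _ _ (Submodule.subset_span ⟨l, rfl⟩)
    · have h1 : toL.toRingHom a ≠ 0 := fun h0 => ha0 (IsFractionRing.injective K[X] L (h0.trans (map_zero _).symm))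
      have h2 : vmap toL.toRingHom (b i l) = (toL.toRingHom a)⁻¹ • tr (nF L f) (nF L g) (o l) i (vmap toL.toRingHom (c l)) := by
        rw [← vmap_tr f g toL, show tr (nF K[X] f) (nF K[X] g) (o l) i (c l) = a • b i l from ha, vmap_smul,
          inv_smul_smul₀ h1]
      show vmap toL.toRingHom (b i l) ∈ _
      rw [h2]
      exact Submodule.smul_mem _ _ (Submodule.subset_span ⟨l, rfl⟩)

/-- both deformations of a chain given by raw generating data -/
theorem exists_frames_of_gens {s : R}
    (hI : ∀ i, (f i).comp (g i) = s • LinearMap.id ∧ (g i).comp (f i) = s • LinearMap.id) (hrd : r ≤ d)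
    (hs : algebraMap R K s = 0) {x : Over.mk (str (CommAlgCat.of R K)) ⟶ D.X} {p : D.X.left}
    (hp : p ∈ Set.range x.left) {S : ℕ → Set (Fin d → K)}
    (G : Gens (nF K f) (nF K g) n r (D.val x) S) (e : Fin r ≃ Fin G.M ⊕ Fin G.P) :
    (∃ q, q ⤳ p ∧ D.HasFrame q fun l => Sum.elim G.oM G.oP (e l)) ∧
      ∃ q, q ⤳ p ∧ D.HasFrame q fun l => Sum.elim G.oM (fun a => G.oP a + 1) (e l) := by
  have hL : Linked (nF K[X] f) (nF K[X] g) n (algebraMap R K[X] s) := linked_nF hI
  have hs0 : algebraMap R K[X] s = 0 := by rw [IsScalarTower.algebraMap_apply R K K[X], hs, map_zero]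
  rw [hs0] at hL
  let ψ : K →ₐ[R] K[X] := IsScalarTower.toAlgHom R K K[X]
  have hψF : ∀ i (y : Fin d → K), nF K[X] f i (vmap ψ.toRingHom y) = vmap ψ.toRingHom (nF K f i y) :=
    fun i y => (vmap_nF ψ f i y).symm
  have hψG : ∀ i (y : Fin d → K), nF K[X] g i (vmap ψ.toRingHom y) = vmap ψ.toRingHom (nF K g i y) :=
    fun i y => (vmap_nF ψ g i y).symm
  have hev : ∀ y : Fin d → K, vmap (evalRingHom 0) (vmap ψ.toRingHom y) = y := fun y => funext fun j => eval_C
  have hevtr : ∀ j i (y : Fin d → K[X]), vmap (evalRingHom 0) (tr (nF K[X] f) (nF K[X] g) j i y) =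
      tr (nF K f) (nF K g) j i (vmap (evalRingHom 0) y) := fun j i y => by
    have hh : ((aeval (0 : K)).restrictScalars R : K[X] →ₐ[R] K).toRingHom = evalRingHom 0 :=
      RingHom.ext fun q => congrFun (coe_aeval_eq_eval (0 : K)) q
    rw [← hh]; exact vmap_tr f g _ _ _ _
  have hevadd : ∀ (y : Fin d → K) (w : Fin d → K[X]),
      vmap (evalRingHom 0) (vmap ψ.toRingHom y + (Polynomial.X : K[X]) • w) = y := fun y w => by
    rw [vmap_add, vmap_smul, hev, show evalRingHom (0 : K) Polynomial.X = 0 from eval_X, zero_smul, add_zero]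
  have hzero : ∀ (y : Fin d → K[X]), (0 : K[X]) • y = 0 := fun y => zero_smul _ y
  let T := tr (nF K[X] f) (nF K[X] g)
  let cM : Fin G.M → Fin d → K[X] := fun a => vmap ψ.toRingHom (G.m a)
  let Z : Fin G.P → Fin d → K[X] := fun a => vmap ψ.toRingHom (G.z a)
  let Xv : Fin G.P → Fin d → K[X] := fun a => vmap ψ.toRingHom (G.x a)
  let c1 : Fin G.P → Fin d → K[X] := fun a => Xv a + (Polynomial.X : K[X]) • vmap ψ.toRingHom (G.w a)
  let c2 : Fin G.P → Fin d → K[X] := fun a => Z a + (Polynomial.X : K[X]) • vmap ψ.toRingHom (G.v a)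
  have hFc1 : ∀ a, nF K[X] f (G.oP a) (c1 a) = (Polynomial.X : K[X]) • Z a := fun a => by
    simp only [c1, Xv, Z, map_add, map_smul, hψF, G.F_x, G.F_w]
    rw [show vmap ψ.toRingHom (0 : Fin d → K) = 0 from funext fun _ => map_zero _, zero_add]
  have hGc2 : ∀ a, nF K[X] g (G.oP a) (c2 a) = (Polynomial.X : K[X]) • Xv a := fun a => by
    simp only [c2, Xv, Z, map_add, map_smul, hψG, G.G_z, G.G_v]
    rw [show vmap ψ.toRingHom (0 : Fin d → K) = 0 from funext fun _ => map_zero _, zero_add]
  have hFX : ∀ a, nF K[X] f (G.oP a) (Xv a) = 0 := fun a => by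
    simp only [Xv, hψF, G.F_x]; exact funext fun _ => map_zero _
  have hGZ : ∀ a, nF K[X] g (G.oP a) (Z a) = 0 := fun a => by
    simp only [Z, hψG, G.G_z]; exact funext fun _ => map_zero _
  have hspan : ∀ i ≤ n, Submodule.span K (Set.range fun l => Sum.elim (fun a => tr (nF K f) (nF K g) (G.oM a) i (G.m a))
      (fun a => if G.oP a < i then tr (nF K f) (nF K g) (G.oP a + 1) i (G.z a) else tr (nF K f) (nF K g) (G.oP a) i (G.x a))
      (e l)) = D.val x i := by
    intro i hi
    rw [← G.span i hi, ← Submodule.span_union, ← Set.Sum.elim_range]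
    congr 1
    exact EquivLike.range_comp (Sum.elim _ _) e
  constructor
  · refine D.exists_frame_of_family hrd hp (fun l => ?_) (fun l => Sum.elim cM c1 (e l))
      (fun i l => Sum.elim (fun a => T (G.oM a) i (cM a))
        (fun a => if G.oP a < i then T (G.oP a + 1) i (Z a) else T (G.oP a) i (c1 a)) (e l)) ?_ ?_ ?_ ?_
    · show Sum.elim G.oM G.oP (e l) ≤ n
      rcases e l with a | a
      · exact G.oM_le a
      · exact (G.oP_lt a).le
    · intro i hi
      refine Eq.trans ?_ (hspan i hi)
      congr 2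
      funext l
      rcases e l with a | a <;> simp only [Sum.elim_inl, Sum.elim_inr]
      · rw [hevtr, hev]
      · split_ifs
        · rw [hevtr, hev]
        · rw [hevtr, hevadd]
    · intro i hi l
      rcases e l with a | a <;> simp only [Sum.elim_inl, Sum.elim_inr]
      · exact ⟨_, F_tr hL hi _ _⟩
      · rcases lt_trichotomy (G.oP a) i with h | h | h
        · rw [if_pos h, if_pos (show G.oP a < i + 1 by omega)]
          exact ⟨_, F_tr hL hi _ _⟩
        · rw [if_neg (show ¬ G.oP a < i by omega), if_pos (show G.oP a < i + 1 by omega), ← h]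
          exact ⟨Polynomial.X, by simp only [T, tr_self, hFc1]⟩
        · rw [if_neg (show ¬ G.oP a < i by omega), if_neg (show ¬ G.oP a < i + 1 by omega)]
          exact ⟨_, F_tr hL hi _ _⟩
    · intro i hi l
      rcases e l with a | a <;> simp only [Sum.elim_inl, Sum.elim_inr]
      · exact ⟨_, G_tr hL hi _ _⟩
      · rcases lt_trichotomy (G.oP a) i with h | h | h
        · rw [if_pos h, if_pos (show G.oP a < i + 1 by omega)]
          exact ⟨_, G_tr hL hi _ _⟩
        · rw [if_neg (show ¬ G.oP a < i by omega), if_pos (show G.oP a < i + 1 by omega), ← h]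
          exact ⟨0, by simp only [T, tr_self, hGZ, hzero]⟩
        · rw [if_neg (show ¬ G.oP a < i by omega), if_neg (show ¬ G.oP a < i + 1 by omega)]
          exact ⟨_, G_tr hL hi _ _⟩
    · intro i hi l
      simp only [trans]
      rcases e l with a | a <;> simp only [Sum.elim_inl, Sum.elim_inr]
      · exact ⟨1, one_ne_zero, (one_smul _ _).symm⟩
      · by_cases h : G.oP a < i
        · exact ⟨Polynomial.X, X_ne_zero, by rw [if_pos h, tr_step h, hFc1, map_smul]⟩
        · exact ⟨1, one_ne_zero, by rw [if_neg h, one_smul]⟩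
  · refine D.exists_frame_of_family hrd hp (fun l => ?_) (fun l => Sum.elim cM c2 (e l))
      (fun i l => Sum.elim (fun a => T (G.oM a) i (cM a))
        (fun a => if G.oP a < i then T (G.oP a + 1) i (c2 a) else T (G.oP a) i (Xv a)) (e l)) ?_ ?_ ?_ ?_
    · show Sum.elim G.oM (fun a => G.oP a + 1) (e l) ≤ n
      rcases e l with a | a
      · exact G.oM_le a
      · exact G.oP_lt a
    · intro i hi
      refine Eq.trans ?_ (hspan i hi)
      congr 2
      funext l
      rcases e l with a | a <;> simp only [Sum.elim_inl, Sum.elim_inr]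
      · rw [hevtr, hev]
      · split_ifs
        · rw [hevtr, hevadd]
        · rw [hevtr, hev]
    · intro i hi l
      rcases e l with a | a <;> simp only [Sum.elim_inl, Sum.elim_inr]
      · exact ⟨_, F_tr hL hi _ _⟩
      · rcases lt_trichotomy (G.oP a) i with h | h | h
        · rw [if_pos h, if_pos (show G.oP a < i + 1 by omega)]
          exact ⟨_, F_tr hL hi _ _⟩
        · rw [if_neg (show ¬ G.oP a < i by omega), if_pos (show G.oP a < i + 1 by omega), ← h]
          exact ⟨0, by simp only [T, tr_self, hFX, hzero]⟩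
        · rw [if_neg (show ¬ G.oP a < i by omega), if_neg (show ¬ G.oP a < i + 1 by omega)]
          exact ⟨_, F_tr hL hi _ _⟩
    · intro i hi l
      rcases e l with a | a <;> simp only [Sum.elim_inl, Sum.elim_inr]
      · exact ⟨_, G_tr hL hi _ _⟩
      · rcases lt_trichotomy (G.oP a) i with h | h | h
        · rw [if_pos h, if_pos (show G.oP a < i + 1 by omega)]
          exact ⟨_, G_tr hL hi _ _⟩
        · rw [if_neg (show ¬ G.oP a < i by omega), if_pos (show G.oP a < i + 1 by omega), ← h]
          exact ⟨Polynomial.X, by simp only [T, tr_self, hGc2]⟩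
        · rw [if_neg (show ¬ G.oP a < i by omega), if_neg (show ¬ G.oP a < i + 1 by omega)]
          exact ⟨_, G_tr hL hi _ _⟩
    · intro i hi l
      simp only [trans]
      rcases e l with a | a <;> simp only [Sum.elim_inl, Sum.elim_inr]
      · exact ⟨1, one_ne_zero, (one_smul _ _).symm⟩
      · by_cases h : G.oP a < i
        · exact ⟨1, one_ne_zero, by rw [if_pos h, one_smul]⟩
        · exact ⟨Polynomial.X, X_ne_zero, by rw [if_neg h, tr_step' (by omega), hGc2, map_smul]⟩

end Rep

end Groth.L13.LG
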