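import Groth.Agent.L13.LG.Scheme

/-! Dimension of linked Grassmannians over a field. -/

set_option autoImplicit false

universe u

open AlgebraicGeometry CategoryTheory Module

namespace Groth.L13.LG

variable {k : Type u} [Field k] {d n r : ℕ} {f g : Fin n → ((Fin d → k) →ₗ[k] (Fin d → k))} {s : k}

theorem card_eVar (o : Fin r → ℕ) (J : ℕ → (Fin r ↪ Fin d)) : Fintype.card (EVar o J) = r * (d - r) := by
  classical
  rw [Fintype.card_sigma]
  have h : ∀ l : Fin r, Fintype.card {c : Fin d // ¬ c ∈ Set.range (J (o l))} = d - r := fun l => by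
    rw [Fintype.card_subtype_compl, Fintype.card_fin]
    congr 1
    exact (Fintype.card_congr (Equiv.ofInjective (J (o l)) (J (o l)).injective).symm).trans (Fintype.card_fin r)
  refine (Finset.sum_congr rfl fun l _ => h l).trans ?_
  simp

theorem ringKrullDim_eRing (o : Fin r → ℕ) (J : ℕ → (Fin r ↪ Fin d)) (q : Fin r → Fin r)
    (hΔ : eDelta f g o J q ≠ 0) : ringKrullDim (ERing f g o J q) = (r * (d - r) : ℕ) := by
  classical
  let P := MvPolynomial (EVar o J) k
  let B := ERing f g o J q
  have hle : Submonoid.powers (eDelta f g o J q) ≤ nonZeroDivisors P := powers_le_nonZeroDivisors_of_noZeroDivisors hΔ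
  haveI : IsDomain B := IsLocalization.isDomain_localization hle
  let K := FractionRing P
  have hunit : IsUnit (algebraMap P K (eDelta f g o J q)) :=
    isUnit_iff_ne_zero.2 fun h => hΔ (IsFractionRing.injective P K (h.trans (map_zero _).symm))
  let ι : B →ₐ[P] K := IsLocalization.liftAlgHom (M := Submonoid.powers (eDelta f g o J q)) (f := Algebra.ofId P K) (by
    rintro ⟨_, m, rfl⟩
    rw [map_pow]
    exact hunit.pow m)
  letI : Algebra B K := ι.toRingHom.toAlgebra
  haveI : IsScalarTower P B K := IsScalarTower.of_algebraMap_eq fun x => (ι.commutes x).symm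
  haveI : IsFractionRing B K :=
    IsFractionRing.isFractionRing_of_isDomain_of_isLocalization (Submonoid.powers (eDelta f g o J q)) B K
  haveI : IsScalarTower k B K := IsScalarTower.of_algebraMap_eq fun x => by
    rw [IsScalarTower.algebraMap_apply k P B, IsScalarTower.algebraMap_apply k P K,
      IsScalarTower.algebraMap_apply P B K]
  haveI : Algebra.FiniteType k B :=
    haveI : Algebra.FiniteType P B := IsLocalization.finiteType_of_monoid_fg (Submonoid.powers (eDelta f g o J q)) B
    Algebra.FiniteType.trans (S := P) inferInstance inferInstance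
  have hP : ringKrullDim P = ((r * (d - r) : ℕ) : WithBot ℕ∞) := by
    rw [MvPolynomial.ringKrullDim_of_isNoetherianRing, ringKrullDim_eq_zero_of_field, zero_add,
      Nat.card_eq_fintype_card, card_eVar]
  obtain ⟨m, -, -, -, hm, -⟩ := Groth.L22.AffineDim.exists_normalization k B
  have h1 := Groth.L22.AffineDim.trdeg_fractionRing k B K hm
  have h2 := Groth.L22.AffineDim.trdeg_fractionRing k P K hP
  have e : m = r * (d - r) := by exact_mod_cast h1.symm.trans h2
  rw [← e]
  exact hm

namespace Rep

variable (D : Rep r f g)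

theorem dim_component (H : Hyp f g s r) {Z : Set D.X.left} (hZ : Z ∈ irreducibleComponents D.X.left) :
    topologicalKrullDim Z = (r * (d - r) : ℕ) := by
  obtain ⟨o₀, η, hη, hcl⟩ := D.exists_eta_of_component H hZ
  obtain ⟨o, ho, J, q, hU⟩ := D.mem_chartE_of_hasFrame H hη.hasFrame
  obtain ⟨hΔ, e, heU, he⟩ := D.exists_generic_chartE H hU
  let C := chartE f g o ho J q H.hI
  haveI : IsOpenImmersion (C.map D) := C.isOpenImmersion D
  have hZe : Z = closure {e} := D.component_eq_of_mem_chartE H hU he hZ (hcl ▸ subset_closure rfl)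
  letI : D.X.left.Over (Spec (CommRingCat.of k)) := ⟨D.X.hom⟩
  haveI : LocallyOfFinitePresentation D.X.hom := D.locallyOfFinitePresentation H.hrd
  haveI : LocallyOfFiniteType (D.X.left ↘ Spec (CommRingCat.of k)) := inferInstanceAs (LocallyOfFiniteType D.X.hom)
  obtain ⟨m, hm, htr⟩ := Groth.L22.SchemeDim.exists_dim_closure_eq_trdeg k D.X.left e
  let U : D.X.left.Opens := (C.map D).opensRange
  have hUaff : IsAffineOpen U := isAffineOpen_opensRange (C.map D)
  obtain ⟨m', hm', htr'⟩ := Groth.L22.SchemeDim.exists_dim_quotient_eq_trdeg k D.X.left hUaff (x := e) heU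
  have hmm : m = m' := by exact_mod_cast htr.symm.trans htr'
  rw [← Groth.L22.SchemeDim.topologicalKrullDim_closure_inter hUaff (x := e) heU] at hm'
  have hinter : (closure ({e} : Set D.X.left) ∩ (U : Set D.X.left)) = Set.range (C.map D) := by
    refine subset_antisymm Set.inter_subset_right fun z hz => ⟨(he z hz).mem_closure, hz⟩
  rw [hinter] at hm'
  have hB : topologicalKrullDim (Set.range (C.map D)) = (r * (d - r) : ℕ) := by
    rw [← ringKrullDim_eRing (f := f) (g := g) o J q hΔ, ← PrimeSpectrum.topologicalKrullDim_eq_ringKrullDim]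
    exact ((C.map D).isOpenEmbedding.isEmbedding.toHomeomorph).isHomeomorph.topologicalKrullDim_eq.symm
  rw [hZe, hm, hmm, ← hm', hB]

end Rep

end Groth.L13.LG
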