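import Groth.Agent.L13.LG.Pts
import Mathlib.LinearAlgebra.Matrix.Rank

/-! Linked chains over a field: frames, multiplicities, extension of the field. -/

set_option autoImplicit false

universe u v w

open Module

namespace Groth.L13.LG

variable {d r n : ℕ}

section Minor

variable {k : Type v} [Field k]

theorem exists_minor (v : Fin r → Fin d → k) (hv : LinearIndependent k v) :
    ∃ J : Fin r ↪ Fin d, IsUnit (Matrix.of fun l m => v l (J m)).det := by
  classical
  let M : Matrix (Fin r) (Fin d) k := Matrix.of v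
  have hrank : finrank k (Submodule.span k (Set.range M.col)) = r := by
    rw [← Matrix.rank_eq_finrank_span_cols, LinearIndependent.rank_matrix (M := M) hv, Fintype.card_fin]
  obtain ⟨κ, a, ha, hspan, hli⟩ := exists_linearIndependent' k M.col
  haveI : Fintype κ := @Fintype.ofFinite κ hli.finite
  have hcard : Fintype.card κ = r := by rw [← finrank_span_eq_card hli, hspan, hrank]
  let e : Fin r ≃ κ := (Fintype.equivFinOfCardEq hcard).symm
  let J : Fin r ↪ Fin d := ⟨a ∘ e, ha.comp e.injective⟩
  refine ⟨J, (Matrix.isUnit_iff_isUnit_det _).1 ?_⟩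
  rw [← Matrix.linearIndependent_cols_iff_isUnit]
  exact hli.comp _ e.injective

theorem linearIndependent_of_minor {A : Type v} [CommRing A] (J : Fin r ↪ Fin d) (v : Fin r → Fin d → A)
    (hv : IsUnit (Matrix.of fun l m => v l (J m)).det) : LinearIndependent A v := by
  rw [Fintype.linearIndependent_iff]
  intro a ha l
  have h : Matrix.vecMul a (Matrix.of fun l m => v l (J m)) = 0 := by
    funext m
    have := congrFun ha (J m)
    simpa [Matrix.vecMul, dotProduct, Finset.sum_apply] using this
  have h2 := congrArg (fun y => Matrix.vecMul y (Matrix.of fun l m => v l (J m))⁻¹) h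
  simp only [Matrix.vecMul_vecMul, Matrix.mul_nonsing_inv _ hv, Matrix.vecMul_one, Matrix.zero_vecMul] at h2
  exact congrFun h2 l

variable {K : Type w} [Field K] (φ : k →+* K)

theorem linearIndependent_vmap (v : Fin r → Fin d → k) (hv : LinearIndependent k v) :
    LinearIndependent K (vmap φ ∘ v) := by
  obtain ⟨J, hJ⟩ := exists_minor v hv
  refine linearIndependent_of_minor J _ ?_
  rw [show (Matrix.of fun l m => (vmap φ ∘ v) l (J m)) = φ.mapMatrix (Matrix.of fun l m => v l (J m)) from rfl,
    ← φ.map_det]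
  exact hJ.map φ

theorem finrank_mapV (W : Submodule k (Fin d → k)) : finrank K (mapV φ W) = finrank k W := by
  let b := Module.finBasis k W
  have hW : W = Submodule.span k (Set.range fun l => (b l : Fin d → k)) := by
    rw [show (Set.range fun l => (b l : Fin d → k)) = W.subtype '' Set.range b from Set.range_comp _ _,
      Submodule.span_image, b.span_eq, Submodule.map_top, Submodule.range_subtype]
  have hli : LinearIndependent k fun l => (b l : Fin d → k) :=
    b.linearIndependent.map' W.subtype (Submodule.ker_subtype W)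
  conv_lhs => rw [hW, mapV_span, ← Set.range_comp]
  exact (finrank_span_eq_card (linearIndependent_vmap φ _ hli)).trans (Fintype.card_fin _)

theorem IsBundle.finrank_eq {W : Submodule k (Fin d → k)} (h : IsBundle r W) (hrd : r ≤ d) : finrank k W = r := by
  have h1 := h.2 ⟨⊥, Ideal.isPrime_bot⟩
  rw [rankAtStalk_eq_finrank_of_free, Pi.natCast_apply] at h1
  have h2 := W.finrank_quotient_add_finrank
  rw [finrank_fin_fun] at h2
  have : finrank k ((Fin d → k) ⧸ W) = d - r := h1
  omega

theorem isBundle_of_finrank_eq {W : Submodule k (Fin d → k)} (h : finrank k W = r) : IsBundle r W := by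
  refine ⟨inferInstance, fun p => ?_⟩
  rw [rankAtStalk_eq_finrank_of_free, Pi.natCast_apply]
  have h2 := W.finrank_quotient_add_finrank
  rw [finrank_fin_fun] at h2
  show finrank k ((Fin d → k) ⧸ W) = d - r
  omega

end Minor

section Chains

variable {R : Type u} [CommRing R] {f g : Fin n → ((Fin d → R) →ₗ[R] (Fin d → R))} {s : R}
  {k : Type v} [Field k] [Algebra R k]

theorem chain_of_isPt (hrd : r ≤ d) {V : ℕ → Submodule k (Fin d → k)} (h : IsPt f g r k V) :
    Chain (nF k f) (nF k g) n r V :=
  ⟨fun i hi => (h.bundle i hi).finrank_eq hrd, h.mapF, h.mapG⟩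

theorem isPt_of_chain {V : ℕ → Submodule k (Fin d → k)} (h : Chain (nF k f) (nF k g) n r V) : IsPt f g r k V :=
  ⟨fun i hi => isBundle_of_finrank_eq (h.rank i hi), h.mapF, h.mapG⟩

theorem linked_nF {A : Type v} [CommRing A] [Algebra R A]
    (hI : ∀ i, (f i).comp (g i) = s • LinearMap.id ∧ (g i).comp (f i) = s • LinearMap.id) :
    Linked (nF A f) (nF A g) n (algebraMap R A s) := by
  intro i hi
  rw [nF_of_lt f hi, nF_of_lt g hi]
  constructor <;> intro x <;> rw [← LinearMap.comp_apply, ← bc_comp]
  · rw [(hI _).1, bc_smul_id]; rfl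
  · rw [(hI _).2, bc_smul_id]; rfl

theorem degenerate_of_ranks (hI : ∀ i, (f i).comp (g i) = s • LinearMap.id ∧ (g i).comp (f i) = s • LinearMap.id)
    (hs : algebraMap R k s = 0)
    (hII : ∀ i, d ≤ finrank k (LinearMap.range (bc k (f i))) + finrank k (LinearMap.range (bc k (g i))))
    (hIII : ∀ i j : Fin n, i.val + 1 = j.val →
      LinearMap.range (bc k (f i)) ⊓ LinearMap.ker (bc k (f j)) = ⊥ ∧
        LinearMap.range (bc k (g j)) ⊓ LinearMap.ker (bc k (g i)) = ⊥) :
    Degenerate (nF k f) (nF k g) n := by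
  have hL : Linked (nF k f) (nF k g) n (0 : k) := hs ▸ linked_nF hI
  have key : ∀ {P Q : (Fin d → k) →ₗ[k] (Fin d → k)}, (∀ x, P (Q x) = 0) →
      d ≤ finrank k (LinearMap.range P) + finrank k (LinearMap.range Q) → LinearMap.ker P = LinearMap.range Q := by
    intro P Q h0 hd
    have h1 : LinearMap.range Q ≤ LinearMap.ker P := by rintro _ ⟨x, rfl⟩; exact LinearMap.mem_ker.2 (h0 x)
    have h2 := LinearMap.finrank_range_add_finrank_ker P
    rw [finrank_fin_fun] at h2
    exact (Submodule.eq_of_le_of_finrank_le h1 (by omega)).symm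
  refine ⟨hL, fun i hi => ?_, fun i hi => ?_, fun i hi => ?_, fun i hi => ?_⟩
  · refine key (fun x => by rw [(hL i hi).1, zero_smul]) ?_
    rw [nF_of_lt f hi, nF_of_lt g hi]
    exact hII _
  · refine key (fun x => by rw [(hL i hi).2, zero_smul]) ?_
    rw [nF_of_lt f hi, nF_of_lt g hi, add_comm]
    exact hII _
  · rw [nF_of_lt f (show i < n by omega), nF_of_lt f hi]
    exact (hIII ⟨i, by omega⟩ ⟨i + 1, hi⟩ rfl).1
  · rw [nF_of_lt g (show i < n by omega), nF_of_lt g hi]
    exact (hIII ⟨i, by omega⟩ ⟨i + 1, hi⟩ rfl).2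

end Chains

section ExactRank

variable {K : Type u} [Field K] {E : Type v} [AddCommGroup E] [Module K E] [FiniteDimensional K E]
  {F G : ℕ → E →ₗ[K] E} {V : ℕ → Submodule K E}

theorem exact_iff_finrank (hL : Linked F G n 0) (hV : Chain F G n r V) :
    Exact F G n V ↔ ∀ i < n, finrank K ((V i).map (F i)) + finrank K ((V (i + 1)).map (G i)) = r := by
  refine forall₂_congr fun i hi => ?_
  have hF : (V i).map (F i) ≤ LinearMap.ker (G i) ⊓ V (i + 1) := by
    rintro _ ⟨x, hx, rfl⟩
    exact ⟨LinearMap.mem_ker.2 (by rw [(hL i hi).2, zero_smul]), hV.mapF i hi x hx⟩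
  have hG : (V (i + 1)).map (G i) ≤ LinearMap.ker (F i) ⊓ V i := by
    rintro _ ⟨x, hx, rfl⟩
    exact ⟨LinearMap.mem_ker.2 (by rw [(hL i hi).1, zero_smul]), hV.mapG i hi x hx⟩
  have h1 : finrank K ((V i).map (F i)) + finrank K ((LinearMap.ker (F i) ⊓ V i : Submodule K E)) = r := by
    have h := LinearMap.finrank_range_add_finrank_ker ((F i).domRestrict (V i))
    rw [LinearMap.range_domRestrict, LinearMap.ker_domRestrict] at h
    rw [← hV.rank i hi.le, ← h]
    congr 1
    rw [inf_comm, ← Submodule.finrank_map_subtype_eq, Submodule.map_comap_subtype]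
  have h2 : finrank K ((V (i + 1)).map (G i)) + finrank K ((LinearMap.ker (G i) ⊓ V (i + 1) : Submodule K E)) = r := by
    have h := LinearMap.finrank_range_add_finrank_ker ((G i).domRestrict (V (i + 1)))
    rw [LinearMap.range_domRestrict, LinearMap.ker_domRestrict] at h
    rw [← hV.rank (i + 1) hi, ← h]
    congr 1
    rw [inf_comm, ← Submodule.finrank_map_subtype_eq, Submodule.map_comap_subtype]
  constructor
  · rintro ⟨a, -⟩
    rw [le_antisymm a hF] at h2
    omega
  · intro h
    exact ⟨(Submodule.eq_of_le_of_finrank_le hF (by omega)).ge, (Submodule.eq_of_le_of_finrank_le hG (by omega)).ge⟩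

end ExactRank

section IsExact

variable {R : Type u} [CommRing R] {f g : Fin n → ((Fin d → R) →ₗ[R] (Fin d → R))}
  {A : Type v} [Field A] [Algebra R A]
  (V : Fin (n + 1) → Module.Grassmannian A (TensorProduct R A (Fin d → R)) (d - r))

theorem map_sub_eq (h : (Fin d → R) →ₗ[R] (Fin d → R)) {i : ℕ} (hi : i < n + 1) :
    (sub V i).map (bc A h) = ((V ⟨i, hi⟩).toSubmodule.map (h.baseChange A)).map (ε A).toLinearMap := by
  rw [sub_apply V hi, ← Submodule.map_comp, ← Submodule.map_comp]
  congr 1
  exact LinearMap.ext fun y => bc_ε h y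

theorem ker_bc (h : (Fin d → R) →ₗ[R] (Fin d → R)) :
    LinearMap.ker (bc A h) = (LinearMap.ker (h.baseChange A)).map (ε A).toLinearMap := by
  ext x
  obtain ⟨y, rfl⟩ := (ε (R := R) A).surjective x
  rw [LinearMap.mem_ker, bc_ε, LinearEquiv.map_eq_zero_iff]
  exact ⟨fun hy => ⟨y, hy, rfl⟩, fun ⟨z, hz, e⟩ => (ε A).injective e ▸ hz⟩

theorem isExact_iff : W4c1limliniiii.IsExact R d r n f g A V ↔ Exact (nF A f) (nF A g) n (sub V) := by
  have hinj : Function.Injective (ε (R := R) (d := d) A).toLinearMap := (ε A).injective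
  constructor
  · intro h i hi
    rw [nF_of_lt f hi, nF_of_lt g hi, ker_bc, ker_bc, map_sub_eq V _ (show i < n + 1 by omega),
      map_sub_eq V _ (show i + 1 < n + 1 by omega), sub_apply V (show i < n + 1 by omega),
      sub_apply V (show i + 1 < n + 1 by omega), ← Submodule.map_inf _ hinj, ← Submodule.map_inf _ hinj]
    exact ⟨Submodule.map_mono (h ⟨i, hi⟩).1, Submodule.map_mono (h ⟨i, hi⟩).2⟩
  · intro h i
    have h' := h i.1 i.2
    rw [nF_of_lt f i.2, nF_of_lt g i.2, ker_bc, ker_bc, map_sub_eq V _ (show i.1 < n + 1 by omega),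
      map_sub_eq V _ (show i.1 + 1 < n + 1 by omega), sub_apply V (show i.1 < n + 1 by omega),
      sub_apply V (show i.1 + 1 < n + 1 by omega), ← Submodule.map_inf _ hinj, ← Submodule.map_inf _ hinj,
      Submodule.map_le_map_iff_of_injective hinj, Submodule.map_le_map_iff_of_injective hinj] at h'
    exact h'

end IsExact

end Groth.L13.LG
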