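import Mathlib.LinearAlgebra.FiniteDimensional.Lemmas
import Mathlib.LinearAlgebra.Dimension.Constructions
import Mathlib.LinearAlgebra.Dimension.OrzechProperty

/-! Transports along a linked chain and the decomposition of a linked chain of subspaces. -/

set_option autoImplicit false

universe u v

open Module

namespace Groth.L13.LG

section Transport

variable {K : Type u} [CommRing K] {E : Type v} [AddCommGroup E] [Module K E]
  (F G : ℕ → E →ₗ[K] E)

/-- transport `k` steps to the right starting at index `j` -/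
def up (j : ℕ) : ℕ → E →ₗ[K] E
  | 0 => LinearMap.id
  | k + 1 => (F (j + k)).comp (up j k)

/-- transport `k` steps to the left ending at index `i` -/
def down : ℕ → ℕ → E →ₗ[K] E
  | _, 0 => LinearMap.id
  | i, k + 1 => (G i).comp (down (i + 1) k)

/-- transport from index `j` to index `i` -/
def tr (j i : ℕ) : E →ₗ[K] E := if j ≤ i then up F j (i - j) else down G i (j - i)

/-- the two-way relations of a linked chain of length `n` -/
def Linked (n : ℕ) (s : K) : Prop :=
  ∀ i < n, (∀ x, F i (G i x) = s • x) ∧ ∀ x, G i (F i x) = s • x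

@[simp] theorem tr_self (j : ℕ) (x : E) : tr F G j j x = x := by simp [tr, up]

theorem tr_succ_right {j i : ℕ} (h : j ≤ i) (x : E) : tr F G j (i + 1) x = F i (tr F G j i x) := by
  rw [tr, if_pos (by omega), tr, if_pos h, show i + 1 - j = (i - j) + 1 by omega]
  show F (j + (i - j)) _ = _
  rw [show j + (i - j) = i by omega]

theorem tr_pred_left {j i : ℕ} (h : i < j) (x : E) : tr F G j i x = G i (tr F G j (i + 1) x) := by
  rw [tr, if_neg (by omega), show j - i = (j - (i + 1)) + 1 by omega]
  rcases (show i + 1 < j ∨ j = i + 1 by omega) with h' | h'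
  · rw [tr, if_neg (by omega)]; rfl
  · subst h'
    simp [tr, up, down]

variable {F G} {n : ℕ} {s : K}

theorem F_tr (h : Linked F G n s) {i : ℕ} (hi : i < n) (j : ℕ) (x : E) :
    F i (tr F G j i x) = (if j ≤ i then (1 : K) else s) • tr F G j (i + 1) x := by
  split_ifs with hj
  · rw [one_smul, tr_succ_right F G hj]
  · rw [tr_pred_left F G (by omega), (h i hi).1]

theorem G_tr (h : Linked F G n s) {i : ℕ} (hi : i < n) (j : ℕ) (x : E) :
    G i (tr F G j (i + 1) x) = (if j ≤ i then s else (1 : K)) • tr F G j i x := by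
  split_ifs with hj
  · rw [tr_succ_right F G hj, (h i hi).2]
  · rw [one_smul, ← tr_pred_left F G (by omega)]

theorem tr_step {j i : ℕ} (h : j < i) (x : E) : tr F G j i x = tr F G (j + 1) i (F j x) := by
  induction i with
  | zero => omega
  | succ i ih =>
    rcases (show j < i ∨ j = i by omega) with h' | rfl
    · rw [tr_succ_right F G h'.le, tr_succ_right F G (show j + 1 ≤ i by omega), ih h']
    · rw [tr_succ_right F G le_rfl, tr_self, tr_self]

theorem tr_step' {j i : ℕ} (h : i ≤ j) (x : E) : tr F G (j + 1) i x = tr F G j i (G j x) := by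
  obtain ⟨k, rfl⟩ := Nat.exists_eq_add_of_le h
  induction k generalizing i with
  | zero =>
    simp only [Nat.add_zero]
    rw [tr_pred_left F G (by omega), tr_self, tr_self]
  | succ k ih =>
    rw [tr_pred_left F G (show i < i + (k + 1) + 1 by omega), tr_pred_left F G (show i < i + (k + 1) by omega),
      show i + (k + 1) = (i + 1) + k by omega, ih (by omega)]

theorem tr_mem {V : ℕ → Submodule K E}
    (hV : ∀ i < n, (∀ x ∈ V i, F i x ∈ V (i + 1)) ∧ ∀ x ∈ V (i + 1), G i x ∈ V i)
    {j i : ℕ} (hj : j ≤ n) (hi : i ≤ n) {x : E} (hx : x ∈ V j) : tr F G j i x ∈ V i := by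
  rcases le_total j i with h | h
  · obtain ⟨k, rfl⟩ := Nat.exists_eq_add_of_le h
    induction k with
    | zero => simpa using hx
    | succ k ih =>
      rw [← Nat.add_assoc, tr_succ_right F G (by omega)]
      exact (hV _ (by omega)).1 _ (ih (by omega) (by omega))
  · obtain ⟨k, rfl⟩ := Nat.exists_eq_add_of_le h
    induction k generalizing i with
    | zero => simpa using hx
    | succ k ih =>
      rw [tr_pred_left F G (by omega)]
      refine (hV _ (by omega)).2 _ ?_
      have := ih (i := i + 1) (by omega) (by omega) (by rw [show i + 1 + k = i + (k + 1) by omega]; exact hx)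
        (by omega)
      rwa [show i + 1 + k = i + (k + 1) by omega] at this

end Transport

section Field

variable {K : Type u} [Field K] {E : Type v} [AddCommGroup E] [Module K E]

/-- inside a finite-dimensional `W`, independent vectors from a set complementing `A` -/
theorem exists_complement [FiniteDimensional K E] (A W : Submodule K E) (S : Set E) (hA : A ≤ W)
    (hS : Submodule.span K S = W) :
    ∃ (q : ℕ) (m : Fin q → E), (∀ a, m a ∈ S) ∧ A ⊔ Submodule.span K (Set.range m) = W ∧
      finrank K A + q = finrank K W := by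
  classical
  obtain ⟨κ, a, ha, hspan, hli⟩ := exists_linearIndependent' K (fun x : S => A.mkQ x.1)
  haveI : Fintype κ := @Fintype.ofFinite κ hli.finite
  let e := Fintype.equivFin κ
  let m : Fin (Fintype.card κ) → E := fun b => (a (e.symm b)).1
  have hr : Set.range (fun x : S => A.mkQ x.1) = A.mkQ '' S := by ext; simp
  have hrange : Set.range m = Set.range fun k => ((a k).1 : E) := by
    ext y
    constructor
    · rintro ⟨b, rfl⟩; exact ⟨_, rfl⟩
    · rintro ⟨k, rfl⟩; exact ⟨e k, by simp [m]⟩
  have hsup : A ⊔ Submodule.span K (Set.range m) = W := by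
    refine le_antisymm (sup_le hA (Submodule.span_le.2 ?_)) ?_
    · rintro _ ⟨b, rfl⟩
      exact hS ▸ Submodule.subset_span (a (e.symm b)).2
    · intro w hw
      have h1 : A.mkQ w ∈ Submodule.span K (Set.range ((fun x : S => A.mkQ x.1) ∘ a)) := by
        rw [hspan, hr, Submodule.span_image, hS]
        exact Submodule.mem_map_of_mem hw
      rw [show Set.range ((fun x : S => A.mkQ x.1) ∘ a) = A.mkQ '' Set.range m by
        rw [hrange, ← Set.range_comp]; rfl, Submodule.span_image] at h1
      obtain ⟨y, hy, hyw⟩ := Submodule.mem_map.1 h1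
      have h2 : w - y ∈ A := (Submodule.Quotient.eq A).1 hyw.symm
      rw [show w = (w - y) + y by abel]
      exact Submodule.add_mem_sup h2 hy
  refine ⟨_, m, fun b => (a _).2, hsup, ?_⟩
  have hli' : LinearIndependent K (A.mkQ ∘ m) := hli.comp _ e.symm.injective
  have hdisj : A ⊓ Submodule.span K (Set.range m) = ⊥ := by
    refine eq_bot_iff.2 ?_
    rintro x ⟨hxA, hx⟩
    obtain ⟨c, rfl⟩ := (Submodule.mem_span_range_iff_exists_fun K).1 hx
    have h0 : A.mkQ (∑ b, c b • m b) = 0 := (Submodule.Quotient.mk_eq_zero A).2 hxA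
    rw [map_sum] at h0
    have hc := Fintype.linearIndependent_iff.1 hli' c (by simpa [map_smul] using h0)
    simp [hc]
  have h3 := Submodule.finrank_sup_add_finrank_inf_eq A (Submodule.span K (Set.range m))
  rw [hsup, hdisj, finrank_bot, Nat.add_zero,
    finrank_span_eq_card (LinearIndependent.of_comp A.mkQ hli'), Fintype.card_fin] at h3
  exact h3.symm

variable [FiniteDimensional K E] (F G : ℕ → E →ₗ[K] E)

/-- the hypotheses of a linked chain over a field with vanishing scalar -/
structure Degenerate (n : ℕ) : Prop where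
  linked : Linked F G n 0
  kerF : ∀ i < n, LinearMap.ker (F i) = LinearMap.range (G i)
  kerG : ∀ i < n, LinearMap.ker (G i) = LinearMap.range (F i)
  dispF : ∀ i, i + 1 < n → LinearMap.range (F i) ⊓ LinearMap.ker (F (i + 1)) = ⊥
  dispG : ∀ i, i + 1 < n → LinearMap.range (G (i + 1)) ⊓ LinearMap.ker (G i) = ⊥

/-- a linked chain of `r`-dimensional subspaces -/
structure Chain (n r : ℕ) (V : ℕ → Submodule K E) : Prop where
  rank : ∀ i ≤ n, finrank K (V i) = r
  mapF : ∀ i < n, ∀ x ∈ V i, F i x ∈ V (i + 1)
  mapG : ∀ i < n, ∀ x ∈ V (i + 1), G i x ∈ V i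

/-- the exactness condition -/
def Exact (n : ℕ) (V : ℕ → Submodule K E) : Prop :=
  ∀ i < n, LinearMap.ker (G i) ⊓ V (i + 1) ≤ (V i).map (F i) ∧ LinearMap.ker (F i) ⊓ V i ≤ (V (i + 1)).map (G i)

/-- a frame: `r` vectors whose transports are bases everywhere -/
structure IsFrame (n r : ℕ) (V : ℕ → Submodule K E) {L : Type*} [Fintype L] (o : L → ℕ) (c : L → E) : Prop where
  card : Fintype.card L = r
  le : ∀ l, o l ≤ n
  span : ∀ i ≤ n, Submodule.span K (Set.range fun l => tr F G (o l) i (c l)) = V i

/-- raw generating data of a linked chain: the special generators pair kernels of `F` and of `G` -/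
structure Gens (n r : ℕ) (V : ℕ → Submodule K E) (S : ℕ → Set E) where
  M : ℕ
  P : ℕ
  card : M + P = r
  oM : Fin M → ℕ
  oP : Fin P → ℕ
  oM_le : ∀ l, oM l ≤ n
  oP_lt : ∀ l, oP l < n
  m : Fin M → E
  x : Fin P → E
  z : Fin P → E
  w : Fin P → E
  v : Fin P → E
  m_mem : ∀ l, m l ∈ S (oM l)
  F_x : ∀ l, F (oP l) (x l) = 0
  G_z : ∀ l, G (oP l) (z l) = 0
  F_w : ∀ l, F (oP l) (w l) = z l
  G_v : ∀ l, G (oP l) (v l) = x l
  span : ∀ i ≤ n, Submodule.span K (Set.range fun l => tr F G (oM l) i (m l)) ⊔
    Submodule.span K (Set.range fun l => if oP l < i then tr F G (oP l + 1) i (z l) else tr F G (oP l) i (x l)) = V i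
  eq_zero_iff : P = 0 ↔ Exact F G n V

variable {F G} {n r : ℕ} {V : ℕ → Submodule K E}

theorem exists_gens (hD : Degenerate F G n) (hV : Chain F G n r V) (S : ℕ → Set E)
    (hS : ∀ i ≤ n, Submodule.span K (S i) = V i) : Nonempty (Gens F G n r V S) := by
  classical
  -- the images from the left and right neighbours, and the two kernels
  let Fi : ℕ → Submodule K E := fun i => if i = 0 then ⊥ else (V (i - 1)).map (F (i - 1))
  let Gi : ℕ → Submodule K E := fun i => if i < n then (V (i + 1)).map (G i) else ⊥
  let Kf : ℕ → Submodule K E := fun i => if i < n then LinearMap.ker (F i) ⊓ V i else ⊥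
  let Kg : ℕ → Submodule K E := fun i => if i = 0 then ⊥ else LinearMap.ker (G (i - 1)) ⊓ V i
  have hFi : ∀ i, i < n → Fi (i + 1) = (V i).map (F i) := fun i _ => by simp [Fi]
  have hGi : ∀ i, i < n → Gi i = (V (i + 1)).map (G i) := fun i h => by simp [Gi, h]
  have hKf : ∀ i, i < n → Kf i = LinearMap.ker (F i) ⊓ V i := fun i h => by simp [Kf, h]
  have hKg : ∀ i, Kg (i + 1) = LinearMap.ker (G i) ⊓ V (i + 1) := fun i => by simp [Kg]
  have hFiKg : ∀ i ≤ n, Fi i ≤ Kg i := by
    intro i hi
    cases i with
    | zero => simp [Fi]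
    | succ i =>
      rw [hFi i (by omega), hKg]
      rintro _ ⟨x, hx, rfl⟩
      exact ⟨LinearMap.mem_ker.2 (by rw [(hD.linked i (by omega)).2, zero_smul]), hV.mapF i (by omega) x hx⟩
  have hGiKf : ∀ i ≤ n, Gi i ≤ Kf i := by
    intro i hi
    by_cases h : i < n
    · rw [hGi i h, hKf i h]
      rintro _ ⟨x, hx, rfl⟩
      exact ⟨LinearMap.mem_ker.2 (by rw [(hD.linked i h).1, zero_smul]), hV.mapG i h x hx⟩
    · simp [Gi, h]
  have hKfV : ∀ i, Kf i ≤ V i := fun i => by
    by_cases h : i < n
    · rw [hKf i h]; exact inf_le_right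
    · simp [Kf, h]
  have hKgV : ∀ i, Kg i ≤ V i := fun i => by
    cases i with
    | zero => simp [Kg]
    | succ i => rw [hKg]; exact inf_le_right
  have hdisp : ∀ i, Kf i ⊓ Kg i = ⊥ := by
    intro i
    cases i with
    | zero => simp [Kg]
    | succ i =>
      by_cases h : i + 1 < n
      · rw [hKf _ h, hKg, eq_bot_iff, ← hD.dispG i h, ← hD.kerF _ h]
        exact inf_le_inf inf_le_left inf_le_left
      · simp [Kf, h]
  -- complements
  choose qx xs hxS hxspan hxcard using fun i : Fin (n + 1) =>
    exists_complement (Gi i) (Kf i) (Kf i : Set E) (hGiKf i (by omega)) (Submodule.span_eq _)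
  choose qz zs hzS hzspan hzcard using fun i : Fin (n + 1) =>
    exists_complement (Fi i) (Kg i) (Kg i : Set E) (hFiKg i (by omega)) (Submodule.span_eq _)
  choose qm ms hmS hmspan hmcard using fun i : Fin (n + 1) =>
    exists_complement (Kf i ⊔ Kg i) (V i) (S i) (sup_le (hKfV _) (hKgV _)) (hS i (by omega))
  have hrankF : ∀ i (hi : i < n), finrank K (Fi (i + 1)) + finrank K (Kf i) = r := fun i hi => by
    have h := LinearMap.finrank_range_add_finrank_ker ((F i).domRestrict (V i))
    rw [LinearMap.range_domRestrict, LinearMap.ker_domRestrict] at h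
    rw [hFi i hi, hKf i hi, ← hV.rank i hi.le, ← h]
    congr 1
    rw [inf_comm, ← Submodule.finrank_map_subtype_eq, Submodule.map_comap_subtype]
  have hrankG : ∀ i (hi : i < n), finrank K (Gi i) + finrank K (Kg (i + 1)) = r := fun i hi => by
    have h := LinearMap.finrank_range_add_finrank_ker ((G i).domRestrict (V (i + 1)))
    rw [LinearMap.range_domRestrict, LinearMap.ker_domRestrict] at h
    rw [hGi i hi, hKg, ← hV.rank (i + 1) hi, ← h]
    congr 1
    rw [inf_comm, ← Submodule.finrank_map_subtype_eq, Submodule.map_comap_subtype]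
  -- the special generators pair up
  have hpair : ∀ i (hi : i < n), qx ⟨i, by omega⟩ = qz ⟨i + 1, by omega⟩ := fun i hi => by
    have h1 : finrank K (Gi i) + qx ⟨i, by omega⟩ = finrank K (Kf i) := hxcard ⟨i, by omega⟩
    have h2 : finrank K (Fi (i + 1)) + qz ⟨i + 1, by omega⟩ = finrank K (Kg (i + 1)) := hzcard ⟨i + 1, by omega⟩
    have := hrankF i hi
    have := hrankG i hi
    omega
  have hxn : qx ⟨n, by omega⟩ = 0 := by
    have h1 : finrank K (Gi n) + qx ⟨n, by omega⟩ = finrank K (Kf n) := hxcard ⟨n, by omega⟩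
    rw [show Gi n = ⊥ from if_neg (lt_irrefl n), show Kf n = ⊥ from if_neg (lt_irrefl n), finrank_bot] at h1
    omega
  have hz0 : qz ⟨0, by omega⟩ = 0 := by
    have h1 : finrank K (Fi 0) + qz ⟨0, by omega⟩ = finrank K (Kg 0) := hzcard ⟨0, by omega⟩
    rw [show Fi 0 = ⊥ from if_pos rfl, show Kg 0 = ⊥ from if_pos rfl, finrank_bot] at h1
    omega
  -- the index types
  let eM := Fintype.equivFin (Σ i : Fin (n + 1), Fin (qm i))
  let eP := Fintype.equivFin (Σ i : Fin n, Fin (qx i.castSucc))
  let zv : ∀ p : Σ i : Fin n, Fin (qx i.castSucc), E := fun p =>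
    zs p.1.succ (Fin.cast (hpair p.1 p.1.2) p.2)
  have hxker : ∀ p : Σ i : Fin n, Fin (qx i.castSucc), F p.1 (xs p.1.castSucc p.2) = 0 := fun p => by
    have h1 : xs p.1.castSucc p.2 ∈ Kf p.1 := hxS p.1.castSucc p.2
    rw [hKf _ p.1.2] at h1
    exact LinearMap.mem_ker.1 h1.1
  have hzker : ∀ p : Σ i : Fin n, Fin (qx i.castSucc), G p.1 (zv p) = 0 := fun p => by
    have h1 : zv p ∈ Kg (p.1 + 1) := hzS p.1.succ _
    rw [hKg] at h1
    exact LinearMap.mem_ker.1 h1.1
  choose wv hwv using fun p : Σ i : Fin n, Fin (qx i.castSucc) =>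
    LinearMap.mem_range.1 ((hD.kerG p.1 p.1.2).le (LinearMap.mem_ker.2 (hzker p)))
  choose vv hvv using fun p : Σ i : Fin n, Fin (qx i.castSucc) =>
    LinearMap.mem_range.1 ((hD.kerF p.1 p.1.2).le (LinearMap.mem_ker.2 (hxker p)))
  let b : ℕ → ((Σ i : Fin (n + 1), Fin (qm i)) ⊕ (Σ i : Fin n, Fin (qx i.castSucc))) → E := fun i =>
    Sum.elim (fun p => tr F G p.1 i (ms p.1 p.2))
      (fun p => if (p.1 : ℕ) < i then tr F G (p.1 + 1) i (zv p) else tr F G p.1 i (xs p.1.castSucc p.2))
  -- what reaches index `i` from the left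
  have hleft : ∀ i ≤ n, Fi i ≤ Submodule.span K (Set.range (b i)) := by
    intro i
    induction i with
    | zero => intro _; simp [Fi]
    | succ i ih =>
      intro hi
      let i' : Fin (n + 1) := ⟨i, by omega⟩
      rw [hFi i (by omega), ← hmspan i', Submodule.map_sup, Submodule.map_sup]
      refine sup_le (sup_le ?_ ?_) ?_
      · rw [hKf i (by omega), Submodule.map_le_iff_le_comap]
        intro x hx
        simp [LinearMap.mem_ker.1 hx.1]
      · rw [← hzspan i', Submodule.map_sup]
        refine sup_le ?_ ?_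
        · refine (Submodule.map_mono (ih (by omega))).trans ?_
          rw [Submodule.map_span, Submodule.span_le]
          rintro _ ⟨_, ⟨p, rfl⟩, rfl⟩
          rcases p with p | p
          · simp only [b, Sum.elim_inl]
            rw [F_tr hD.linked (by omega)]
            exact Submodule.smul_mem _ _ (Submodule.subset_span ⟨.inl p, rfl⟩)
          · simp only [b, Sum.elim_inr]
            rcases lt_trichotomy (p.1 : ℕ) i with h | h | h
            · rw [if_pos h, F_tr hD.linked (by omega), if_pos (by omega), one_smul]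
              refine Submodule.subset_span ⟨.inr p, ?_⟩
              exact if_pos (show (p.1 : ℕ) < i + 1 by omega)
            · rw [if_neg (by omega), ← h, tr_self, hxker]
              exact zero_mem _
            · rw [if_neg (by omega), F_tr hD.linked (by omega), if_neg (by omega), zero_smul]
              exact zero_mem _
        · rw [Submodule.map_span, Submodule.span_le]
          rintro _ ⟨_, ⟨a, rfl⟩, rfl⟩
          cases i with
          | zero => exact absurd (Nat.lt_of_lt_of_eq a.2 hz0) (Nat.not_lt_zero _)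
          | succ i₁ =>
            let p : Σ i : Fin n, Fin (qx i.castSucc) := ⟨⟨i₁, by omega⟩, Fin.cast (hpair i₁ (by omega)).symm a⟩
            refine Submodule.subset_span ⟨.inr p, ?_⟩
            simp only [b, Sum.elim_inr, p, show i₁ < i₁ + 1 + 1 by omega, if_true]
            rw [tr_succ_right F G le_rfl, tr_self]
            rfl
      · rw [Submodule.map_span, Submodule.span_le]
        rintro _ ⟨_, ⟨a, rfl⟩, rfl⟩
        refine Submodule.subset_span ⟨.inl ⟨i', a⟩, ?_⟩
        simp only [b, Sum.elim_inl, i']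
        rw [tr_succ_right F G le_rfl, tr_self]
  have hright : ∀ k i, i + k = n → Gi i ≤ Submodule.span K (Set.range (b i)) := by
    intro k
    induction k with
    | zero => intro i hi; simp [Gi, show ¬ i < n by omega]
    | succ k ih =>
      intro i hi
      let i' : Fin (n + 1) := ⟨i + 1, by omega⟩
      rw [hGi i (by omega), ← hmspan i', Submodule.map_sup, Submodule.map_sup]
      refine sup_le (sup_le ?_ ?_) ?_
      · rw [← hxspan i', Submodule.map_sup]
        refine sup_le ?_ ?_
        · refine (Submodule.map_mono (ih (i + 1) (by omega))).trans ?_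
          rw [Submodule.map_span, Submodule.span_le]
          rintro _ ⟨_, ⟨p, rfl⟩, rfl⟩
          rcases p with p | p
          · simp only [b, Sum.elim_inl]
            rw [G_tr hD.linked (by omega)]
            exact Submodule.smul_mem _ _ (Submodule.subset_span ⟨.inl p, rfl⟩)
          · simp only [b, Sum.elim_inr]
            rcases lt_trichotomy (p.1 : ℕ) i with h | h | h
            · rw [if_pos (by omega), G_tr hD.linked (by omega), if_pos (by omega), zero_smul]
              exact zero_mem _
            · rw [if_pos (by omega), ← h, tr_self, hzker]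
              exact zero_mem _
            · rw [if_neg (by omega), G_tr hD.linked (by omega), if_neg (by omega), one_smul]
              refine Submodule.subset_span ⟨.inr p, ?_⟩
              exact if_neg (show ¬ (p.1 : ℕ) < i by omega)
        · rw [Submodule.map_span, Submodule.span_le]
          rintro _ ⟨_, ⟨a, rfl⟩, rfl⟩
          by_cases h1 : i + 1 < n
          · refine Submodule.subset_span ⟨.inr ⟨⟨i + 1, h1⟩, a⟩, ?_⟩
            simp only [b, Sum.elim_inr, show ¬ i + 1 < i by omega, if_false]
            rw [tr_pred_left F G (show i < i + 1 by omega), tr_self]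
            rfl
          · have e : i' = ⟨n, by omega⟩ := Fin.ext (show i + 1 = n by omega)
            exact absurd (Nat.lt_of_lt_of_eq a.2 ((congrArg qx e).trans hxn)) (Nat.not_lt_zero _)
      · rw [hKg, Submodule.map_le_iff_le_comap]
        intro x hx
        simp [LinearMap.mem_ker.1 hx.1]
      · rw [Submodule.map_span, Submodule.span_le]
        rintro _ ⟨_, ⟨a, rfl⟩, rfl⟩
        refine Submodule.subset_span ⟨.inl ⟨i', a⟩, ?_⟩
        simp only [b, Sum.elim_inl, i']
        rw [tr_pred_left F G (show i < i + 1 by omega), tr_self]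
  have hbV : ∀ i ≤ n, ∀ p, b i p ∈ V i := by
    intro i hi p
    have hV' : ∀ i < n, (∀ x ∈ V i, F i x ∈ V (i + 1)) ∧ ∀ x ∈ V (i + 1), G i x ∈ V i :=
      fun i h => ⟨hV.mapF i h, hV.mapG i h⟩
    rcases p with p | p
    · exact tr_mem hV' (by omega) hi (hS p.1 (by omega) ▸ Submodule.subset_span (hmS p.1 p.2))
    · simp only [b, Sum.elim_inr]
      split_ifs
      · exact tr_mem hV' (by omega) hi (hKgV _ (hzS p.1.succ _))
      · exact tr_mem hV' (by omega) hi (hKfV _ (hxS p.1.castSucc p.2))
  have hspan : ∀ i ≤ n, Submodule.span K (Set.range (b i)) = V i := by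
    intro i hi
    refine le_antisymm (Submodule.span_le.2 (by rintro _ ⟨p, rfl⟩; exact hbV i hi p)) ?_
    let i' : Fin (n + 1) := ⟨i, by omega⟩
    rw [← hmspan i', ← hxspan i', ← hzspan i']
    refine sup_le (sup_le (sup_le (hright (n - i) i (by omega)) ?_) (sup_le (hleft i hi) ?_)) ?_
    · rw [Submodule.span_le]
      rintro _ ⟨a, rfl⟩
      by_cases h : i < n
      · refine Submodule.subset_span ⟨.inr ⟨⟨i, h⟩, a⟩, ?_⟩
        simp [b]
        rfl
      · have e : i' = ⟨n, by omega⟩ := Fin.ext (show i = n by omega)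
        exact absurd (Nat.lt_of_lt_of_eq a.2 ((congrArg qx e).trans hxn)) (Nat.not_lt_zero _)
    · rw [Submodule.span_le]
      rintro _ ⟨a, rfl⟩
      cases i with
      | zero => exact absurd (Nat.lt_of_lt_of_eq a.2 hz0) (Nat.not_lt_zero _)
      | succ i₁ =>
        refine Submodule.subset_span ⟨.inr ⟨⟨i₁, by omega⟩, Fin.cast (hpair i₁ (by omega)).symm a⟩, ?_⟩
        simp [b, zv]
        rfl
    · rw [Submodule.span_le]
      rintro _ ⟨a, rfl⟩
      refine Submodule.subset_span ⟨.inl ⟨i', a⟩, ?_⟩
      simp [b, i']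
  -- the number of generators
  have hVi : ∀ i : Fin (n + 1), finrank K (Kf i) + finrank K (Kg i) + qm i = r := fun i => by
    have h := Submodule.finrank_sup_add_finrank_inf_eq (Kf i) (Kg i)
    rw [hdisp, finrank_bot] at h
    have := hmcard i
    rw [hV.rank i (by omega)] at this
    omega
  have hsum : ∀ i (hi : i ≤ n), finrank K (Fi i) =
      ∑ j ∈ (Finset.univ : Finset (Fin (n + 1))).filter (fun j : Fin (n + 1) => (j : ℕ) < i), (qz j + qm j) := by
    intro i
    induction i with
    | zero => intro _; simp [Fi]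
    | succ i ih =>
      intro hi
      let i' : Fin (n + 1) := ⟨i, by omega⟩
      have hins : (Finset.univ : Finset (Fin (n + 1))).filter (fun j : Fin (n + 1) => (j : ℕ) < i + 1) =
          insert i' (Finset.univ.filter fun j : Fin (n + 1) => (j : ℕ) < i) := by
        ext j; simp [i', Fin.ext_iff]; omega
      rw [hins, Finset.sum_insert (by simp [i']), ← ih (by omega)]
      have := hrankF i (by omega)
      have h2 : finrank K (Kf i) + finrank K (Kg i) + qm i' = r := hVi i'
      have h3 : finrank K (Fi i) + qz i' = finrank K (Kg i) := hzcard i'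
      omega
  have hcard : ∑ j, qm j + ∑ j : Fin n, qx j.castSucc = r := by
    have hn := hsum n le_rfl
    have h1 : ∑ j : Fin (n + 1), (qz j + qm j) = r := by
      have h2 : finrank K (Kf n) + finrank K (Kg n) + qm ⟨n, by omega⟩ = r := hVi ⟨n, by omega⟩
      have h3 : finrank K (Fi n) + qz ⟨n, by omega⟩ = finrank K (Kg n) := hzcard ⟨n, by omega⟩
      rw [show Kf n = ⊥ from if_neg (lt_irrefl n), finrank_bot] at h2
      have hins : (Finset.univ : Finset (Fin (n + 1))) =
          insert ⟨n, by omega⟩ (Finset.univ.filter fun j : Fin (n + 1) => (j : ℕ) < n) := by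
        ext j; simp [Fin.ext_iff]; omega
      rw [hins, Finset.sum_insert (by simp), ← hn]
      omega
    rw [Finset.sum_add_distrib, Fin.sum_univ_succ qz] at h1
    rw [show ∑ j : Fin n, qx j.castSucc = ∑ j : Fin n, qz j.succ from Finset.sum_congr rfl fun j _ => hpair j j.2]
    have : qz 0 = 0 := hz0
    omega
  refine ⟨{
    M := _, P := _, card := ?_
    oM := fun l => ((eM.symm l).1 : ℕ), oP := fun l => ((eP.symm l).1 : ℕ)
    oM_le := fun l => Nat.lt_succ_iff.1 (eM.symm l).1.2, oP_lt := fun l => (eP.symm l).1.2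
    m := fun l => ms (eM.symm l).1 (eM.symm l).2
    x := fun l => xs (eP.symm l).1.castSucc (eP.symm l).2
    z := fun l => zv (eP.symm l)
    w := fun l => wv (eP.symm l), v := fun l => vv (eP.symm l)
    m_mem := fun l => hmS _ _
    F_x := fun l => hxker _, G_z := fun l => hzker _, F_w := fun l => hwv _, G_v := fun l => hvv _
    span := fun i hi => ?_, eq_zero_iff := ?_ }⟩
  · simpa [Fintype.card_sigma] using hcard
  · rw [← hspan i hi, ← Submodule.span_union]
    congr 1
    ext y
    constructor
    · rintro (⟨l, rfl⟩ | ⟨l, rfl⟩)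
      · exact ⟨.inl (eM.symm l), rfl⟩
      · exact ⟨.inr (eP.symm l), rfl⟩
    · rintro ⟨p | p, rfl⟩
      · exact Or.inl ⟨eM p, congrArg (fun q => b i (.inl q)) (eM.symm_apply_apply p)⟩
      · exact Or.inr ⟨eP p, congrArg (fun q => b i (.inr q)) (eP.symm_apply_apply p)⟩
  · rw [show Fintype.card (Σ i : Fin n, Fin (qx i.castSucc)) = ∑ i : Fin n, qx i.castSucc by simp,
      Finset.sum_eq_zero_iff]
    constructor
    · intro h i hi
      have h0 : qx ⟨i, by omega⟩ = 0 := h ⟨i, hi⟩ (Finset.mem_univ _)
      have h1 : finrank K (Gi i) + qx ⟨i, by omega⟩ = finrank K (Kf i) := hxcard ⟨i, by omega⟩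
      have h2 : finrank K (Fi (i + 1)) + qz ⟨i + 1, by omega⟩ = finrank K (Kg (i + 1)) := hzcard ⟨i + 1, by omega⟩
      rw [← hFi i hi, ← hGi i hi, ← hKf i hi, ← hKg]
      have := hpair i hi
      exact ⟨(Submodule.eq_of_le_of_finrank_eq (hFiKg (i + 1) hi) (by omega)).ge,
        (Submodule.eq_of_le_of_finrank_eq (hGiKf i hi.le) (by omega)).ge⟩
    · intro hex i _
      have h1 : finrank K (Gi i) + qx i.castSucc = finrank K (Kf i) := hxcard i.castSucc
      have h2 : finrank K (Kf i) ≤ finrank K (Gi i) :=
        Submodule.finrank_mono (by rw [hKf _ i.2, hGi _ i.2]; exact (hex i i.2).2)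
      omega

/-- the number of frame vectors starting at or left of `i` is the rank of `F i` on the chain -/
theorem IsFrame.finrank_map (hL : Linked F G n 0) (hV : Chain F G n r V) {L : Type*} [Fintype L] {o : L → ℕ}
    {c : L → E} (h : IsFrame F G n r V o c) {i : ℕ} (hi : i < n) :
    finrank K ((V i).map (F i)) = Fintype.card {l : L // o l ≤ i} := by
  have hbas : ∀ k ≤ n, LinearIndependent K fun l => tr F G (o l) k (c l) := fun k hk => by
    rw [linearIndependent_iff_card_eq_finrank_span, Set.finrank, h.span k hk, h.card, hV.rank k hk]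
  rw [← finrank_span_eq_card ((hbas (i + 1) hi).comp (Subtype.val : {l : L // o l ≤ i} → L) Subtype.val_injective),
    ← h.span i hi.le, Submodule.map_span]
  refine congrArg (fun W : Submodule K E => finrank K W)
    (le_antisymm (Submodule.span_le.2 ?_) (Submodule.span_le.2 ?_))
  · rintro _ ⟨_, ⟨l, rfl⟩, rfl⟩
    rw [F_tr hL hi]
    split_ifs with hl
    · rw [one_smul]; exact Submodule.subset_span ⟨⟨l, hl⟩, rfl⟩
    · rw [zero_smul]; exact zero_mem _
  · rintro _ ⟨⟨l, hl⟩, rfl⟩
    exact Submodule.subset_span ⟨_, ⟨l, rfl⟩, by rw [F_tr hL hi, if_pos hl, one_smul]; rfl⟩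

theorem IsFrame.exact (hV : Chain F G n r V) {s : K} (hL : Linked F G n s)
    {L : Type*} [Fintype L] {o : L → ℕ} {c : L → E} (h : IsFrame F G n r V o c) : Exact F G n V := by
  classical
  intro i hi
  by_cases hs : s = 0
  swap
  · constructor
    · intro x hx
      have h0 : s • x = 0 := by rw [← (hL i hi).1, LinearMap.mem_ker.1 hx.1, map_zero]
      rw [(smul_eq_zero_iff_right hs).1 h0]
      exact zero_mem _
    · intro x hx
      have h0 : s • x = 0 := by rw [← (hL i hi).2, LinearMap.mem_ker.1 hx.1, map_zero]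
      rw [(smul_eq_zero_iff_right hs).1 h0]
      exact zero_mem _
  subst hs
  have hbas : ∀ k ≤ n, LinearIndependent K fun l => tr F G (o l) k (c l) := fun k hk => by
    rw [linearIndependent_iff_card_eq_finrank_span, Set.finrank, h.span k hk, h.card, hV.rank k hk]
  constructor
  · rintro x ⟨hxk, hx⟩
    rw [← h.span (i + 1) hi] at hx
    obtain ⟨a, rfl⟩ := (Submodule.mem_span_range_iff_exists_fun K).1 hx
    have h0 : ∑ l, (a l * if o l ≤ i then 0 else 1) • tr F G (o l) i (c l) = 0 := by
      refine Eq.trans ?_ (LinearMap.mem_ker.1 hxk)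
      rw [map_sum]
      exact Finset.sum_congr rfl fun l _ => by rw [map_smul, G_tr hL hi, smul_smul]
    refine sum_mem fun l _ => ?_
    by_cases hl : o l ≤ i
    · refine Submodule.smul_mem _ _ ⟨tr F G (o l) i (c l), h.span i hi.le ▸ Submodule.subset_span ⟨l, rfl⟩, ?_⟩
      rw [F_tr hL hi, if_pos hl, one_smul]
    · have := Fintype.linearIndependent_iff.1 (hbas i hi.le) _ h0 l
      rw [if_neg hl, mul_one] at this
      rw [this, zero_smul]
      exact zero_mem _
  · rintro x ⟨hxk, hx⟩
    rw [← h.span i hi.le] at hx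
    obtain ⟨a, rfl⟩ := (Submodule.mem_span_range_iff_exists_fun K).1 hx
    have h0 : ∑ l, (a l * if o l ≤ i then 1 else 0) • tr F G (o l) (i + 1) (c l) = 0 := by
      refine Eq.trans ?_ (LinearMap.mem_ker.1 hxk)
      rw [map_sum]
      exact Finset.sum_congr rfl fun l _ => by rw [map_smul, F_tr hL hi, smul_smul]
    refine sum_mem fun l _ => ?_
    by_cases hl : o l ≤ i
    · have := Fintype.linearIndependent_iff.1 (hbas (i + 1) hi) _ h0 l
      rw [if_pos hl, mul_one] at this
      rw [this, zero_smul]
      exact zero_mem _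
    · refine Submodule.smul_mem _ _ ⟨tr F G (o l) (i + 1) (c l), h.span (i + 1) hi ▸ Submodule.subset_span ⟨l, rfl⟩, ?_⟩
      rw [G_tr hL hi, if_neg hl, one_smul]

omit [FiniteDimensional K E] in
theorem tr_injective {s : K} (hs : s ≠ 0) (hL : Linked F G n s) : ∀ i ≤ n, Function.Injective (tr F G 0 i) := by
  intro i
  induction i with
  | zero => intro _ x y hxy; simpa using hxy
  | succ i ih =>
    intro hi x y hxy
    rw [tr_succ_right F G (Nat.zero_le i), tr_succ_right F G (Nat.zero_le i)] at hxy
    refine ih (by omega) (smul_right_injective E hs ?_)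
    show s • _ = s • _
    rw [← (hL i (by omega)).2, ← (hL i (by omega)).2, hxy]

/-- for invertible scalar any basis at index `0` is a frame -/
theorem isFrame_zero {s : K} (hs : s ≠ 0) (hL : Linked F G n s) (hV : Chain F G n r V) {L : Type*} [Fintype L]
    {c : L → E} (hc : Submodule.span K (Set.range c) = V 0) (hcard : Fintype.card L = r) :
    IsFrame F G n r V (fun _ => 0) c := by
  refine ⟨hcard, fun _ => Nat.zero_le n, fun i hi => ?_⟩
  have hle : Submodule.span K (Set.range fun l => tr F G 0 i (c l)) ≤ V i := Submodule.span_le.2 (by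
    rintro _ ⟨l, rfl⟩
    exact tr_mem (fun i h => ⟨hV.mapF i h, hV.mapG i h⟩) (Nat.zero_le n) hi (hc ▸ Submodule.subset_span ⟨l, rfl⟩))
  refine Submodule.eq_of_le_of_finrank_eq hle ?_
  rw [show (Set.range fun l => tr F G 0 i (c l)) = tr F G 0 i '' Set.range c from (Set.range_comp _ _),
    Submodule.span_image, hc,
    LinearEquiv.finrank_eq (Submodule.equivMapOfInjective _ (tr_injective hs hL i hi) _).symm, hV.rank i hi,
    hV.rank 0 (Nat.zero_le n)]

end Field

end Groth.L13.LG
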