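import Groth.Agent.L13.LG.ChartE
import Mathlib.RingTheory.Localization.FractionRing
import Mathlib.RingTheory.Localization.AtPrime.Basic
import Mathlib.RingTheory.MvPolynomial.Basic

/-! Generic framed points of a representing scheme. -/

set_option autoImplicit false

universe u

open AlgebraicGeometry CategoryTheory Module

namespace Groth.L13.LG

variable {R : Type u} [CommRing R] {d n r : ℕ} {f g : Fin n → ((Fin d → R) →ₗ[R] (Fin d → R))}

namespace Rep

variable (D : Rep r f g)

/-- a point is framed with origins `o` -/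
def HasFrame (p : D.X.left) (o : Fin r → ℕ) : Prop :=
  ∃ (K : Type u) (_ : Field K) (_ : Algebra R K) (x : Over.mk (str (CommAlgCat.of R K)) ⟶ D.X)
    (c : Fin r → Fin d → K), p ∈ Set.range x.left ∧ IsFrame (nF K f) (nF K g) n r (D.val x) o c

variable [IsDomain R]

variable (R d r) in
/-- the polynomial ring of generic vectors -/
abbrev GPoly : Type u := MvPolynomial (Fin r × Fin d) R

variable (R d r) in
/-- its fraction field -/
abbrev GField : Type u := FractionRing (GPoly R d r)

variable (R d r) in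
/-- generic vectors -/
noncomputable def gvec : Fin r → Fin d → GPoly R d r := fun l c => MvPolynomial.X (l, c)

variable (R d r) in
/-- generic vectors in the fraction field -/
noncomputable def gvecL : Fin r → Fin d → GField R d r := fun l => vmap (algebraMap _ _) (gvec R d r l)

/-- the point is the generic framed point with origins `o` -/
def IsEta (o : Fin r → ℕ) (p : D.X.left) : Prop :=
  ∃ x : Over.mk (str (CommAlgCat.of R (GField R d r))) ⟶ D.X, p ∈ Set.range x.left ∧
    (∀ i ≤ n, D.val x i = Submodule.span (GField R d r) (Set.range (trans f g o (GField R d r) (gvecL R d r) i))) ∧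
    ∀ l, o l ≤ n

theorem IsEta.hasFrame {o : Fin r → ℕ} {p : D.X.left} (h : D.IsEta o p) : D.HasFrame p o := by
  obtain ⟨x, hp, hx, ho⟩ := h
  exact ⟨_, inferInstance, inferInstance, x, gvecL R d r, hp, Fintype.card_fin r, ho, fun i hi => (hx i hi).symm⟩

omit [IsDomain R] in
theorem range_subsingleton {K : Type u} [Field K] [Algebra R K] (x : Over.mk (str (CommAlgCat.of R K)) ⟶ D.X)
    {p q : D.X.left} (hp : p ∈ Set.range x.left) (hq : q ∈ Set.range x.left) : p = q := by
  obtain ⟨a, rfl⟩ := hp
  obtain ⟨b, rfl⟩ := hq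
  congr 1
  have hbot : ∀ e : PrimeSpectrum K, e.asIdeal = ⊥ := fun e =>
    (Ideal.eq_bot_or_top e.asIdeal).resolve_right e.isPrime.ne_top
  exact PrimeSpectrum.ext ((hbot a).trans (hbot b).symm)

theorem IsEta.unique {o : Fin r → ℕ} {p q : D.X.left} (hp : D.IsEta o p) (hq : D.IsEta o q) : p = q := by
  obtain ⟨x, hpx, hx, -⟩ := hp
  obtain ⟨y, hqy, hy, -⟩ := hq
  rw [D.val_ext (x := y) (y := x) fun i hi => (hy i hi).trans (hx i hi).symm] at hqy
  exact D.range_subsingleton x hpx hqy

omit [IsDomain R] in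
theorem exists_frame_minor {K : Type u} [Field K] [Algebra R K] {V : ℕ → Submodule K (Fin d → K)} {o : Fin r → ℕ}
    {c : Fin r → Fin d → K} (hrd : r ≤ d) (hV : IsPt f g r K V) (hc : IsFrame (nF K f) (nF K g) n r V o c) :
    ∃ J : ℕ → (Fin r ↪ Fin d), ∀ i ≤ n, IsUnit (sqm (J i) (trans f g o K c i)).det := by
  have hli : ∀ i ≤ n, LinearIndependent K (trans f g o K c i) := fun i hi => by
    show LinearIndependent K fun l => tr (nF K f) (nF K g) (o l) i (c l)
    rw [linearIndependent_iff_card_eq_finrank_span, Set.finrank, hc.span i hi, hc.card,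
      (hV.bundle i hi).finrank_eq hrd]
  choose J hJ using fun i : {i : ℕ // i ≤ n} => exists_minor _ (hli i.1 i.2)
  obtain ⟨J₀, -⟩ := exists_minor _ (hli 0 (Nat.zero_le n))
  refine ⟨fun i => if h : i ≤ n then J ⟨i, h⟩ else J₀, fun i hi => ?_⟩
  simp only [dif_pos hi]
  exact hJ ⟨i, hi⟩

/-- every framed point specialises from the generic one -/
theorem exists_eta_specializes {s : R}
    (hI : ∀ i, (f i).comp (g i) = s • LinearMap.id ∧ (g i).comp (f i) = s • LinearMap.id) (hrd : r ≤ d)
    {p : D.X.left} {o : Fin r → ℕ} (h : D.HasFrame p o) :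
    ∃ η, D.IsEta o η ∧ η ⤳ p := by
  obtain ⟨K, hK, hRK, x, c, hp, hc⟩ := h
  obtain ⟨J, hJ⟩ := exists_frame_minor hrd (D.isPt_val x) hc
  let ev : GPoly R d r →ₐ[R] K := MvPolynomial.aeval fun v => c v.1 v.2
  have hev : ∀ l, vmap ev.toRingHom (gvec R d r l) = c l := fun l => funext fun j => MvPolynomial.aeval_X _ _
  let 𝔭 : Ideal (GPoly R d r) := RingHom.ker ev.toRingHom
  haveI : 𝔭.IsPrime := RingHom.ker_isPrime _
  let O : Type u := Localization.AtPrime 𝔭
  let toO : GPoly R d r →ₐ[R] O := IsScalarTower.toAlgHom R _ _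
  let cO : Fin r → Fin d → O := fun l => vmap toO.toRingHom (gvec R d r l)
  have huO : ∀ i ≤ n, IsUnit (sqm (J i) (trans f g o O cO i)).det := fun i hi => by
    rw [← vmap_trans toO (gvec R d r) i, det_sqm_vmap]
    refine IsLocalization.map_units O (⟨_, ?_⟩ : 𝔭.primeCompl)
    show ¬ ev.toRingHom (sqm (J i) (trans f g o (GPoly R d r) (gvec R d r) i)).det = 0
    rw [← det_sqm_vmap, vmap_trans ev (gvec R d r) i, funext hev]
    exact (hJ i hi).ne_zero
  have hptO := isPt_euniv (o := o) hI cO huO
  let ι : O →ₐ[R] GField R d r :=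
    IsLocalization.liftAlgHom (M := 𝔭.primeCompl) (f := IsScalarTower.toAlgHom R (GPoly R d r) (GField R d r))
      (fun y => isUnit_iff_ne_zero.2 fun h0 => y.2 (by
        have h1 : (y : GPoly R d r) = 0 := IsFractionRing.injective (GPoly R d r) (GField R d r) (h0.trans (map_zero _).symm)
        rw [h1]; exact zero_mem _))
  let evO : O →ₐ[R] K :=
    IsLocalization.liftAlgHom (M := 𝔭.primeCompl) (f := ev) (fun y => isUnit_iff_ne_zero.2 fun h0 => y.2 h0)
  have hιc : ∀ l, vmap ι.toRingHom (cO l) = gvecL R d r l := fun l => funext fun j => IsLocalization.lift_eq _ _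
  have hevc : ∀ l, vmap evO.toRingHom (cO l) = c l := fun l => by
    rw [← hev l]; exact funext fun j => IsLocalization.lift_eq _ _
  have hgen : ∀ i, mapV ι.toRingHom (Submodule.span O (Set.range (trans f g o O cO i))) =
      Submodule.span (GField R d r) (Set.range (trans f g o (GField R d r) (gvecL R d r) i)) := fun i => by
    rw [mapV_span, ← Set.range_comp,
      show vmap ι.toRingHom ∘ trans f g o O cO i = trans f g o _ (gvecL R d r) i by
        rw [← funext hιc]; exact vmap_trans ι _ i]
  obtain ⟨z, hz⟩ := D.exists_pt (A := CommAlgCat.of R (GField R d r)) (hptO.map ι)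
  let a : Spec (CommRingCat.of (GField R d r)) := (⟨⊥, Ideal.isPrime_bot⟩ : PrimeSpectrum (GField R d r))
  refine ⟨z.left a, ⟨z, ⟨a, rfl⟩, fun i hi => (hz i hi).trans (hgen i), hc.le⟩, ?_⟩
  refine D.specializes (O := CommAlgCat.of R O) (K := CommAlgCat.of R (GField R d r)) (k := CommAlgCat.of R K)
    (Field.toIsField _) (Field.toIsField _) ι evO ?_ hptO z x (fun i hi => hz i hi) ?_ ⟨a, rfl⟩ hp
  · refine le_antisymm (IsLocalRing.le_maximalIdeal (RingHom.ker_ne_top _)) ?_
    show IsLocalRing.maximalIdeal O ≤ RingHom.ker evO.toRingHom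
    rw [← IsLocalization.AtPrime.map_eq_maximalIdeal 𝔭 O, Ideal.map_le_iff_le_comap]
    intro y hy
    show evO.toRingHom (algebraMap (GPoly R d r) O y) = 0
    exact (IsLocalization.lift_eq _ _).trans hy
  · intro i hi
    rw [mapV_span, ← Set.range_comp,
      show vmap evO.toRingHom ∘ trans f g o O cO i = trans f g o K c i by
        rw [← funext hevc]; exact vmap_trans evO _ i]
    exact (hc.span i hi).symm

theorem IsEta.hom_eq_bot {o : Fin r → ℕ} {p : D.X.left} (h : D.IsEta o p) :
    (D.X.hom p : PrimeSpectrum R).asIdeal = ⊥ := by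
  obtain ⟨x, ⟨a, rfl⟩, -⟩ := h
  have e : D.X.hom (x.left a) = str (CommAlgCat.of R (GField R d r)) a :=
    congrArg (fun m : Spec (CommRingCat.of (GField R d r)) ⟶ Spec (CommRingCat.of R) => m a) (Over.w x)
  rw [e]
  show Ideal.comap (algebraMap R (GField R d r)) (a : PrimeSpectrum (GField R d r)).asIdeal = ⊥
  rw [(Ideal.eq_bot_or_top (a : PrimeSpectrum (GField R d r)).asIdeal).resolve_right
    (a : PrimeSpectrum (GField R d r)).isPrime.ne_top, ← RingHom.ker_eq_comap_bot]
  refine (RingHom.injective_iff_ker_eq_bot _).1 ?_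
  rw [IsScalarTower.algebraMap_eq R (GPoly R d r) (GField R d r)]
  exact (IsFractionRing.injective (GPoly R d r) (GField R d r)).comp (MvPolynomial.C_injective _ _)

end Rep

end Groth.L13.LG
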