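import Groth.Agent.L13.LG.Struct
import Mathlib.RingTheory.LocalRing.ResidueField.Ideal

/-! The standing hypotheses from rank conditions at residue fields. -/

set_option autoImplicit false

universe u

open Module TensorProduct

namespace Groth.L13.LG

variable {R : Type u} [CommRing R] {d n r : ℕ}

theorem inf_ker_eq_bot_iff {K : Type u} [Field K] {E : Type u} [AddCommGroup E] [Module K E] [FiniteDimensional K E]
    (W : Submodule K E) (G : E →ₗ[K] E) :
    W ⊓ LinearMap.ker G = ⊥ ↔ finrank K (W.map G) = finrank K W := by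
  have h := LinearMap.finrank_range_add_finrank_ker (G.domRestrict W)
  rw [LinearMap.range_domRestrict, LinearMap.ker_domRestrict, ← Submodule.finrank_map_subtype_eq,
    Submodule.map_comap_subtype] at h
  rw [← Submodule.finrank_eq_zero (R := K)]
  omega

theorem range_bc_eq {K L : Type u} [Field K] [Algebra R K] [Field L] [Algebra R L] (ψ : K →ₐ[R] L)
    (h : (Fin d → R) →ₗ[R] (Fin d → R)) :
    LinearMap.range (bc L h) = mapV ψ.toRingHom (LinearMap.range (bc K h)) := by
  have htop : mapV ψ.toRingHom (⊤ : Submodule K (Fin d → K)) = ⊤ := by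
    refine Submodule.eq_top_of_finrank_eq ?_
    rw [finrank_mapV, finrank_top, finrank_fin_fun, finrank_fin_fun]
  rw [← Submodule.map_top, ← Submodule.map_top, ← htop, mapV, mapV, Submodule.map_span, Submodule.map_coe,
    Set.image_image, Set.image_image]
  congr 1
  exact Set.image_congr' fun x => bc_map ψ h x

theorem degenerate_transfer {f g : Fin n → ((Fin d → R) →ₗ[R] (Fin d → R))} {s : R}
    (hI : ∀ i, (f i).comp (g i) = s • LinearMap.id ∧ (g i).comp (f i) = s • LinearMap.id)
    {K L : Type u} [Field K] [Algebra R K] [Field L] [Algebra R L] (ψ : K →ₐ[R] L) (hs : algebraMap R L s = 0)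
    (hII : ∀ i, d ≤ finrank K (LinearMap.range (bc K (f i))) + finrank K (LinearMap.range (bc K (g i))))
    (hIII : ∀ i j : Fin n, i.val + 1 = j.val →
      LinearMap.range (bc K (f i)) ⊓ LinearMap.ker (bc K (f j)) = ⊥ ∧
        LinearMap.range (bc K (g j)) ⊓ LinearMap.ker (bc K (g i)) = ⊥) :
    Degenerate (nF L f) (nF L g) n := by
  refine degenerate_of_ranks hI hs (fun i => ?_) fun i j hij => ?_
  · rw [range_bc_eq ψ, range_bc_eq ψ, finrank_mapV, finrank_mapV]
    exact hII i
  · have key : ∀ (a b : (Fin d → R) →ₗ[R] (Fin d → R)), LinearMap.range (bc K a) ⊓ LinearMap.ker (bc K b) = ⊥ →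
        LinearMap.range (bc L a) ⊓ LinearMap.ker (bc L b) = ⊥ := by
      intro a b hab
      rw [inf_ker_eq_bot_iff] at hab ⊢
      rw [range_bc_eq ψ, finrank_mapV, ← hab, mapV, Submodule.map_span, Set.image_image]
      refine Eq.trans ?_ (finrank_mapV ψ.toRingHom ((LinearMap.range (bc K a)).map (bc K b)))
      rw [mapV, Submodule.map_coe, Set.image_image]
      refine congrArg (fun W : Submodule L (Fin d → L) => finrank L W) (congrArg _ ?_)
      exact Set.image_congr' fun x => bc_map ψ b x
    exact ⟨key _ _ (hIII i j hij).1, key _ _ (hIII i j hij).2⟩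

theorem bc_self {k : Type u} [Field k] (h : (Fin d → k) →ₗ[k] (Fin d → k)) : bc k h = h := by
  apply LinearMap.ext
  intro x
  have e : ∀ y : Fin d → k, ε (R := k) k (1 ⊗ₜ[k] y) = y := fun y => by rw [ε_tmul]; simp
  conv_lhs => rw [← e x, bc_ε, LinearMap.baseChange_tmul, e]

theorem Hyp.of_field {k : Type u} [Field k] {f g : Fin n → ((Fin d → k) →ₗ[k] (Fin d → k))} {s : k}
    (hrd : r ≤ d) (hI : ∀ i, (f i).comp (g i) = s • LinearMap.id ∧ (g i).comp (f i) = s • LinearMap.id)
    (hII : ∀ i, d ≤ finrank k (LinearMap.range (f i)) + finrank k (LinearMap.range (g i)))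
    (hIII : ∀ i j : Fin n, i.val + 1 = j.val →
      LinearMap.range (f i) ⊓ LinearMap.ker (f j) = ⊥ ∧ LinearMap.range (g j) ⊓ LinearMap.ker (g i) = ⊥) :
    Hyp f g s r :=
  ⟨hrd, hI, fun K _ _ hs => degenerate_transfer hI (Algebra.ofId k K) hs
    (fun i => by rw [bc_self, bc_self]; exact hII i)
    (fun i j hij => by rw [bc_self, bc_self, bc_self, bc_self]; exact hIII i j hij)⟩

theorem range_bc (A : Type u) [CommRing A] [Algebra R A] (h : (Fin d → R) →ₗ[R] (Fin d → R)) :
    LinearMap.range (bc A h) = (LinearMap.range (h.baseChange A)).map (ε A).toLinearMap := by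
  rw [bc, LinearMap.range_comp, LinearMap.range_comp_of_range_eq_top]
  exact LinearEquiv.range _

theorem Hyp.of_residue {f g : Fin n → ((Fin d → R) →ₗ[R] (Fin d → R))} {s : R}
    (hrd : r ≤ d) (hI : ∀ i, (f i).comp (g i) = s • LinearMap.id ∧ (g i).comp (f i) = s • LinearMap.id)
    (hII : ∀ (P : Ideal R) [P.IsPrime], ∀ i,
      d ≤ finrank P.ResidueField (LinearMap.range ((f i).baseChange P.ResidueField)) +
        finrank P.ResidueField (LinearMap.range ((g i).baseChange P.ResidueField)))
    (hIII : ∀ (P : Ideal R) [P.IsPrime], ∀ i j : Fin n, i.val + 1 = j.val →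
      LinearMap.range ((f i).baseChange P.ResidueField) ⊓ LinearMap.ker ((f j).baseChange P.ResidueField) = ⊥ ∧
        LinearMap.range ((g j).baseChange P.ResidueField) ⊓ LinearMap.ker ((g i).baseChange P.ResidueField) = ⊥) :
    Hyp f g s r := by
  refine ⟨hrd, hI, fun K _ _ hs => ?_⟩
  let P : Ideal R := RingHom.ker (algebraMap R K)
  haveI : P.IsPrime := RingHom.ker_isPrime _
  let ψ : P.ResidueField →ₐ[R] K := Ideal.ResidueField.liftₐ P (Algebra.ofId R K) le_rfl
    (fun x hx => isUnit_iff_ne_zero.2 hx)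
  refine degenerate_transfer hI ψ hs (fun i => ?_) fun i j hij => ?_
  · rw [range_bc, range_bc, LinearEquiv.finrank_map_eq, LinearEquiv.finrank_map_eq]
    exact hII P i
  · have hinj : Function.Injective (ε (R := R) (d := d) P.ResidueField).toLinearMap := (ε _).injective
    rw [range_bc, range_bc, ker_bc, ker_bc, ← Submodule.map_inf _ hinj, ← Submodule.map_inf _ hinj]
    exact ⟨by rw [(hIII P i j hij).1, Submodule.map_bot], by rw [(hIII P i j hij).2, Submodule.map_bot]⟩

end Groth.L13.LG
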