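import Groth.Prelude.Def_W4c1limliniiiiLG
import Groth.Agent.L13.LG.Frame
import Mathlib.LinearAlgebra.Matrix.ToLin
import Mathlib.LinearAlgebra.Matrix.NonsingularInverse
import Mathlib.LinearAlgebra.TensorProduct.Pi
import Mathlib.RingTheory.Flat.LocallyFree

/-! Points of linked Grassmannians as chains of submodules of `A^d`. -/

set_option autoImplicit false

universe u v w

open Module TensorProduct

namespace Groth.L13.LG

variable {R : Type u} [CommRing R] {d r n : ℕ}

section BaseChange

variable (A : Type v) [CommRing A] [Algebra R A]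

/-- `A ⊗ R^d = A^d` -/
noncomputable def ε : A ⊗[R] (Fin d → R) ≃ₗ[A] (Fin d → A) := piScalarRight R A A (Fin d)

/-- base change of an endomorphism of `R^d` to `A^d` -/
noncomputable def bc (f : (Fin d → R) →ₗ[R] (Fin d → R)) : (Fin d → A) →ₗ[A] (Fin d → A) :=
  (ε A).toLinearMap ∘ₗ f.baseChange A ∘ₗ (ε A).symm.toLinearMap

/-- the maps of the chain over `A`, indexed by natural numbers -/
noncomputable def nF (f : Fin n → ((Fin d → R) →ₗ[R] (Fin d → R))) (i : ℕ) :
    (Fin d → A) →ₗ[A] (Fin d → A) :=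
  if h : i < n then bc A (f ⟨i, h⟩) else 0

variable {A}

theorem ε_tmul (a : A) (x : Fin d → R) : ε A (a ⊗ₜ[R] x) = fun c => x c • a := by
  simp [ε]

theorem bc_ε (f : (Fin d → R) →ₗ[R] (Fin d → R)) (y : A ⊗[R] (Fin d → R)) :
    bc A f (ε A y) = ε A (f.baseChange A y) := by simp [bc]

theorem nF_of_lt (f : Fin n → ((Fin d → R) →ₗ[R] (Fin d → R))) {i : ℕ} (h : i < n) :
    nF A f i = bc A (f ⟨i, h⟩) := dif_pos h

theorem bc_comp (f g : (Fin d → R) →ₗ[R] (Fin d → R)) : bc A (f ∘ₗ g) = bc A f ∘ₗ bc A g := by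
  apply LinearMap.ext
  intro x
  simp [bc, LinearMap.baseChange_comp]

theorem bc_smul_id (s : R) : bc A (s • (LinearMap.id : (Fin d → R) →ₗ[R] (Fin d → R))) =
    algebraMap R A s • LinearMap.id := by
  apply LinearMap.ext
  intro x
  obtain ⟨y, rfl⟩ := (ε (R := R) A).surjective x
  rw [bc_ε, LinearMap.baseChange_smul, LinearMap.baseChange_id]
  simp only [LinearMap.smul_apply, LinearMap.id_coe, id_eq]
  rw [algebra_compatible_smul A s y, map_smul]

variable {B : Type w} [CommRing B] [Algebra R B]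

theorem ε_map (φ : A →ₐ[R] B) (a : A) (x : Fin d → R) :
    (fun c => φ (ε A (a ⊗ₜ[R] x) c)) = ε B (φ a ⊗ₜ[R] x) := by
  funext c
  simp [ε_tmul]

theorem bc_map (φ : A →ₐ[R] B) (f : (Fin d → R) →ₗ[R] (Fin d → R)) (v : Fin d → A) :
    bc B f (fun c => φ (v c)) = fun c => φ (bc A f v c) := by
  obtain ⟨y, rfl⟩ := (ε (R := R) A).surjective v
  induction y with
  | zero => simp only [map_zero, Pi.zero_apply]; exact map_zero _
  | tmul a x => rw [ε_map, bc_ε, bc_ε, LinearMap.baseChange_tmul, LinearMap.baseChange_tmul, ε_map]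
  | add y z hy hz =>
    have e : (fun c => φ (ε A (y + z) c)) = (fun c => φ (ε A y c)) + fun c => φ (ε A z c) := by
      funext c; simp
    rw [e, map_add, hy, hz]
    funext c
    simp

end BaseChange

section Image

variable {A : Type v} [CommRing A] {B : Type w} [CommRing B] (φ : A →+* B)

/-- coordinatewise image of a vector -/
def vmap (v : Fin d → A) : Fin d → B := fun c => φ (v c)

/-- the submodule spanned by the image -/
def mapV (W : Submodule A (Fin d → A)) : Submodule B (Fin d → B) :=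
  Submodule.span B (vmap φ '' W)

theorem vmap_add (v v' : Fin d → A) : vmap φ (v + v') = vmap φ v + vmap φ v' := by
  funext c; simp [vmap]

theorem vmap_smul (a : A) (v : Fin d → A) : vmap φ (a • v) = φ a • vmap φ v := by
  funext c; simp [vmap]

theorem vmap_sum {ι : Type*} (S : Finset ι) (v : ι → Fin d → A) :
    vmap φ (∑ i ∈ S, v i) = ∑ i ∈ S, vmap φ (v i) := by
  funext c; simp [vmap, Finset.sum_apply]

theorem mapV_span (S : Set (Fin d → A)) :
    mapV φ (Submodule.span A S) = Submodule.span B (vmap φ '' S) := by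
  refine le_antisymm (Submodule.span_le.2 ?_) (Submodule.span_mono (Set.image_mono Submodule.subset_span))
  rintro _ ⟨x, hx, rfl⟩
  induction hx using Submodule.span_induction with
  | mem x h => exact Submodule.subset_span ⟨x, h, rfl⟩
  | zero => rw [show vmap φ (0 : Fin d → A) = 0 by funext c; simp [vmap]]; exact zero_mem _
  | add x y _ _ hx hy => rw [vmap_add]; exact add_mem hx hy
  | smul a x _ hx => rw [vmap_smul]; exact Submodule.smul_mem _ _ hx

theorem vmap_mem {W : Submodule A (Fin d → A)} {v : Fin d → A} (h : v ∈ W) : vmap φ v ∈ mapV φ W :=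
  Submodule.subset_span ⟨v, h, rfl⟩

theorem mapV_mapV {C : Type*} [CommRing C] (ψ : B →+* C) (W : Submodule A (Fin d → A)) :
    mapV ψ (mapV φ W) = mapV (ψ.comp φ) W := by
  show mapV ψ (Submodule.span B _) = _
  rw [mapV_span, Set.image_image]
  rfl

theorem mapV_id (W : Submodule A (Fin d → A)) : mapV (RingHom.id A) W = W := by
  rw [mapV, show vmap (d := d) (RingHom.id A) = id from rfl, Set.image_id, Submodule.span_eq]

end Image

section Bundle

variable {A : Type v} [CommRing A]

/-- a subbundle of rank `r` of `A^d` -/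
def IsBundle (r : ℕ) (W : Submodule A (Fin d → A)) : Prop :=
  Projective A ((Fin d → A) ⧸ W) ∧ ∀ p, rankAtStalk (R := A) ((Fin d → A) ⧸ W) p = d - r

/-- vectors with an invertible minor at `J` span a subbundle -/
theorem isBundle_of_minor (J : Fin r ↪ Fin d) (v : Fin r → Fin d → A)
    (hv : IsUnit (Matrix.of fun l m => v l (J m)).det) :
    IsBundle r (Submodule.span A (Set.range v)) := by
  classical
  set M := Matrix.of fun l m => v l (J m)
  let C := {c : Fin d // c ∉ Set.range J}
  let P : (Fin d → A) →ₗ[A] (Fin r → A) := LinearMap.funLeft A A J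
  let σ : (Fin r → A) →ₗ[A] (Fin d → A) := Fintype.linearCombination A v ∘ₗ (Matrix.vecMulLinear M⁻¹)
  have hPσ : ∀ y, P (σ y) = y := by
    intro y
    funext m
    have h : P (σ y) m = (Matrix.vecMul (Matrix.vecMul y M⁻¹) M) m := by
      simp [P, σ, LinearMap.funLeft_apply, Fintype.linearCombination_apply, Finset.sum_apply, Matrix.vecMul,
        dotProduct, M]
    rw [h, Matrix.vecMul_vecMul, Matrix.nonsing_inv_mul M hv, Matrix.vecMul_one]
  have hσ : ∀ y, σ y ∈ Submodule.span A (Set.range v) := fun y =>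
    (Submodule.mem_span_range_iff_exists_fun A).2 ⟨_, rfl⟩
  let T : (Fin d → A) →ₗ[A] (C → A) :=
    LinearMap.funLeft A A (Subtype.val : C → Fin d) ∘ₗ (LinearMap.id - σ ∘ₗ P)
  have hker : LinearMap.ker T = Submodule.span A (Set.range v) := by
    apply le_antisymm
    · intro x hx
      have hx0 : x - σ (P x) = 0 := by
        funext c
        by_cases hc : c ∈ Set.range J
        · obtain ⟨m, rfl⟩ := hc
          have := congrFun (hPσ (P x)) m
          simp only [P, LinearMap.funLeft_apply] at this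
          show x (J m) - σ (P x) (J m) = 0
          exact sub_eq_zero.2 this.symm
        · exact congrFun (LinearMap.mem_ker.1 hx) ⟨c, hc⟩
      rw [sub_eq_zero.1 hx0]
      exact hσ _
    · rw [Submodule.span_le]
      rintro _ ⟨l, rfl⟩
      have : σ (P (v l)) = v l := by
        have h1 : P (v l) = M l := rfl
        have h2 : Matrix.vecMul (M l) M⁻¹ = Pi.single l 1 := by
          funext m
          rw [show Matrix.vecMul (M l) M⁻¹ m = (M * M⁻¹) l m from rfl, Matrix.mul_nonsing_inv M hv,
            Matrix.one_apply, Pi.single_apply]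
          simp [eq_comm]
        rw [h1]
        simp [σ, h2]
      show T (v l) = 0
      simp [T, this]
  have hsurj : Function.Surjective T := by
    intro y
    let x : Fin d → A := fun c => if h : c ∈ Set.range J then 0 else y ⟨c, h⟩
    have hPx : P x = 0 := by funext m; simp [P, x, LinearMap.funLeft_apply]
    refine ⟨x, funext fun c => ?_⟩
    show x c.1 - σ (P x) c.1 = y c
    rw [hPx, map_zero, Pi.zero_apply, sub_zero]
    exact dif_neg c.2
  have e : ((Fin d → A) ⧸ Submodule.span A (Set.range v)) ≃ₗ[A] (C → A) :=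
    (Submodule.quotEquivOfEq _ _ hker.symm).trans (LinearMap.quotKerEquivOfSurjective T hsurj)
  haveI : Free A ((Fin d → A) ⧸ Submodule.span A (Set.range v)) := Free.of_equiv e.symm
  refine ⟨inferInstance, fun p => ?_⟩
  haveI : Nontrivial A := ⟨⟨0, 1, fun h => p.isPrime.ne_top ((Ideal.eq_top_iff_one _).2 (h ▸ zero_mem _))⟩⟩
  rw [rankAtStalk_eq_finrank_of_free, Pi.natCast_apply, LinearEquiv.finrank_eq e, finrank_pi]
  show Fintype.card {c : Fin d // ¬ c ∈ Set.range J} = d - r
  rw [Fintype.card_subtype_compl, Fintype.card_fin]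
  congr 1
  exact (Fintype.card_congr (Equiv.ofInjective J J.injective).symm).trans (Fintype.card_fin r)

theorem IsBundle.eq_of_le {W W' : Submodule A (Fin d → A)} (h : IsBundle r W) (h' : IsBundle r W') (hle : W ≤ W') :
    W = W' := by
  haveI := h.1
  haveI := h'.1
  refine le_antisymm hle fun x hx => ?_
  have hb := Module.bijective_of_surjective_of_rankAtStalk_eq (φ := Submodule.factor hle)
    (Submodule.factor_surjective hle) fun m _ => (h.2 _).trans (h'.2 _).symm
  rw [← Submodule.Quotient.mk_eq_zero]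
  apply hb.1
  rw [map_zero]
  exact (Submodule.Quotient.mk_eq_zero W').2 hx

/-- a subbundle with an invertible minor is spanned by its vectors -/
theorem IsBundle.eq_span {W : Submodule A (Fin d → A)} (h : IsBundle r W) (J : Fin r ↪ Fin d)
    (v : Fin r → Fin d → A) (hvW : ∀ l, v l ∈ W) (hv : IsUnit (Matrix.of fun l m => v l (J m)).det) :
    W = Submodule.span A (Set.range v) :=
  ((isBundle_of_minor J v hv).eq_of_le h (Submodule.span_le.2 (Set.range_subset_iff.2 hvW))).symm

end Bundle

section Points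

variable {f g : Fin n → ((Fin d → R) →ₗ[R] (Fin d → R))}

/-- the chain of submodules of `A^d` of a tuple, indexed by natural numbers -/
noncomputable def sub {A : Type v} [CommRing A] [Algebra R A]
    (V : Fin (n + 1) → Module.Grassmannian A (A ⊗[R] (Fin d → R)) (d - r)) (i : ℕ) : Submodule A (Fin d → A) :=
  if h : i < n + 1 then (V ⟨i, h⟩).toSubmodule.map (ε A).toLinearMap else ⊥

/-- a linked chain of subbundles -/
structure IsPt (f g : Fin n → ((Fin d → R) →ₗ[R] (Fin d → R))) (r : ℕ) (A : Type v) [CommRing A] [Algebra R A]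
    (V : ℕ → Submodule A (Fin d → A)) : Prop where
  bundle : ∀ i ≤ n, IsBundle r (V i)
  mapF : ∀ i < n, ∀ x ∈ V i, nF A f i x ∈ V (i + 1)
  mapG : ∀ i < n, ∀ x ∈ V (i + 1), nF A g i x ∈ V i

variable {A : Type v} [CommRing A] [Algebra R A]

theorem sub_apply (V : Fin (n + 1) → Module.Grassmannian A (A ⊗[R] (Fin d → R)) (d - r)) {i : ℕ} (h : i < n + 1) :
    sub V i = (V ⟨i, h⟩).toSubmodule.map (ε A).toLinearMap := dif_pos h

theorem isBundle_sub (V : Fin (n + 1) → Module.Grassmannian A (A ⊗[R] (Fin d → R)) (d - r)) {i : ℕ} (hi : i ≤ n) :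
    IsBundle r (sub V i) := by
  rw [sub_apply V (by omega)]
  let e := Submodule.Quotient.equiv (V ⟨i, by omega⟩).toSubmodule _ (ε A) rfl
  exact ⟨Projective.of_equiv e, fun p => by
    rw [← congrFun (rankAtStalk_eq_of_equiv e) p, (V ⟨i, _⟩).rankAtStalk_eq]⟩

theorem isPt_sub (V : Fin (n + 1) → Module.Grassmannian A (A ⊗[R] (Fin d → R)) (d - r))
    (hV : V ∈ W4c1limliniiii.LGPoints R d r n f g A) : IsPt f g r A (sub V) := by
  refine ⟨fun i hi => isBundle_sub V hi, fun i hi x hx => ?_, fun i hi x hx => ?_⟩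
  · rw [sub_apply V (show i < n + 1 by omega)] at hx
    obtain ⟨y, hy, rfl⟩ := hx
    rw [sub_apply V (show i + 1 < n + 1 by omega), nF_of_lt f hi]
    exact ⟨_, (hV ⟨i, hi⟩).1 ⟨y, hy, rfl⟩, (bc_ε _ y).symm⟩
  · rw [sub_apply V (show i + 1 < n + 1 by omega)] at hx
    obtain ⟨y, hy, rfl⟩ := hx
    rw [sub_apply V (show i < n + 1 by omega), nF_of_lt g hi]
    exact ⟨_, (hV ⟨i, hi⟩).2 ⟨y, hy, rfl⟩, (bc_ε _ y).symm⟩

theorem exists_sub {W : ℕ → Submodule A (Fin d → A)} (h : IsPt f g r A W) :
    ∃ V : Fin (n + 1) → Module.Grassmannian A (A ⊗[R] (Fin d → R)) (d - r),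
      V ∈ W4c1limliniiii.LGPoints R d r n f g A ∧ ∀ i ≤ n, sub V i = W i := by
  have e : ∀ i : Fin (n + 1), ((A ⊗[R] (Fin d → R)) ⧸ (W i).comap (ε A).toLinearMap) ≃ₗ[A] (Fin d → A) ⧸ W i :=
    fun i => Submodule.Quotient.equiv _ _ (ε A) (Submodule.map_comap_eq_of_surjective (ε A).surjective _)
  let V : Fin (n + 1) → Module.Grassmannian A (A ⊗[R] (Fin d → R)) (d - r) := fun i =>
    { toSubmodule := (W i).comap (ε A).toLinearMap
      finite_quotient := Module.Finite.equiv (e i).symm
      projective_quotient := by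
        haveI := (h.bundle i (by omega)).1
        exact Projective.of_equiv (e i).symm
      rankAtStalk_eq := fun p => by
        rw [congrFun (rankAtStalk_eq_of_equiv (e i)) p]; exact (h.bundle i (by omega)).2 p }
  refine ⟨V, fun i => ⟨?_, ?_⟩, fun i hi => ?_⟩
  · rintro _ ⟨y, hy, rfl⟩
    show ε A ((f i).baseChange A y) ∈ W (i.1 + 1)
    rw [← bc_ε, ← nF_of_lt f i.2]
    exact h.mapF _ i.2 _ hy
  · rintro _ ⟨y, hy, rfl⟩
    show ε A ((g i).baseChange A y) ∈ W i.1
    rw [← bc_ε, ← nF_of_lt g i.2]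
    exact h.mapG _ i.2 _ hy
  · rw [sub_apply V (by omega)]
    exact Submodule.map_comap_eq_of_surjective (ε A).surjective _

theorem sub_injective {V V' : Fin (n + 1) → Module.Grassmannian A (A ⊗[R] (Fin d → R)) (d - r)}
    (h : ∀ i ≤ n, sub V i = sub V' i) : V = V' := by
  funext i
  refine Module.Grassmannian.ext (Submodule.map_injective_of_injective (f := (ε A).toLinearMap) (ε A).injective ?_)
  have := h i (by omega)
  rwa [sub_apply V i.2, sub_apply V' i.2] at this

end Points

section MapSub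

variable {A : Type v} {B : Type v} [CommRing A] [Algebra R A] [CommRing B] [Algebra R B]

theorem map_ε_map (φ : A →ₐ[R] B) (N : Module.Grassmannian A (A ⊗[R] (Fin d → R)) (d - r)) :
    (Module.Grassmannian.map φ N).toSubmodule.map (ε B).toLinearMap =
      mapV φ.toRingHom (N.toSubmodule.map (ε A).toLinearMap) := by
  rw [Module.Grassmannian.map_toSubmodule]
  algebraize [φ.toRingHom]
  haveI : IsScalarTower R A B := IsScalarTower.of_algebraMap_eq' φ.comp_algebraMap.symm
  set c := AlgebraTensorModule.cancelBaseChange R A B B (Fin d → R)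
  have hc : ∀ y, ε B (c ((1 : B) ⊗ₜ[A] y)) = vmap φ.toRingHom (ε A y) := by
    intro y
    induction y with
    | zero =>
      rw [TensorProduct.tmul_zero, map_zero, map_zero, map_zero]
      funext i; simp [vmap]
    | tmul a x =>
      rw [AlgebraTensorModule.cancelBaseChange_tmul,
        show vmap φ.toRingHom (ε A (a ⊗ₜ[R] x)) = ε B (φ a ⊗ₜ[R] x) from ε_map φ a x,
        show a • (1 : B) = φ a by rw [Algebra.smul_def, mul_one]; rfl]
    | add y z hy hz => rw [TensorProduct.tmul_add, map_add, map_add, map_add, vmap_add, hy, hz]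
  show (LinearMap.ker (N.toSubmodule.mkQ.baseChange B ∘ₗ c.symm.toLinearMap)).map (ε B).toLinearMap = _
  rw [LinearMap.ker_comp]
  apply le_antisymm
  · rintro _ ⟨z, hz, rfl⟩
    have hex : Function.Exact (LinearMap.lTensor B N.toSubmodule.subtype) (LinearMap.lTensor B N.toSubmodule.mkQ) :=
      lTensor_exact B (LinearMap.exact_subtype_mkQ _) (Submodule.mkQ_surjective _)
    obtain ⟨t, ht⟩ := (hex (c.symm z)).1 hz
    have hz' : z = c (LinearMap.lTensor B N.toSubmodule.subtype t) := by rw [ht, LinearEquiv.apply_symm_apply]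
    subst hz'
    clear ht hz
    induction t with
    | zero => simp
    | tmul b y =>
      rw [LinearMap.lTensor_tmul, show b ⊗ₜ[A] (N.toSubmodule.subtype y) = b • ((1 : B) ⊗ₜ[A] (y : A ⊗[R] (Fin d → R))) by
        rw [TensorProduct.smul_tmul', smul_eq_mul, mul_one]; rfl, map_smul, LinearEquiv.coe_coe, map_smul, hc]
      exact Submodule.smul_mem _ _ (vmap_mem _ ⟨_, y.2, rfl⟩)
    | add x y hx hy => rw [map_add, map_add, map_add]; exact add_mem hx hy
  · rw [mapV, Submodule.span_le]
    rintro _ ⟨_, ⟨y, hy, rfl⟩, rfl⟩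
    refine ⟨c ((1 : B) ⊗ₜ[A] y), ?_, hc y⟩
    show N.toSubmodule.mkQ.baseChange B (c.symm (c ((1 : B) ⊗ₜ[A] y))) = 0
    rw [LinearEquiv.symm_apply_apply, LinearMap.baseChange_tmul, Submodule.mkQ_apply,
      (Submodule.Quotient.mk_eq_zero _).2 hy, TensorProduct.tmul_zero]

theorem sub_map (φ : A →ₐ[R] B) (V : Fin (n + 1) → Module.Grassmannian A (A ⊗[R] (Fin d → R)) (d - r))
    (V' : Fin (n + 1) → Module.Grassmannian B (B ⊗[R] (Fin d → R)) (d - r))
    (hV : ∀ i, V' i = Module.Grassmannian.map φ (V i)) {i : ℕ} (hi : i ≤ n) :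
    sub V' i = mapV φ.toRingHom (sub V i) := by
  rw [sub_apply V' (by omega), sub_apply V (by omega), hV, map_ε_map]

end MapSub

end Groth.L13.LG
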