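import Groth.Agent.L13.LG.FieldPts
import Mathlib.AlgebraicGeometry.Morphisms.OpenImmersion
import Mathlib.AlgebraicGeometry.ResidueField
import Mathlib.AlgebraicGeometry.Gluing
import Mathlib.Algebra.Category.CommAlgCat.Basic
import Mathlib.RingTheory.Localization.Away.Basic
import Mathlib.RingTheory.LocalRing.Basic

/-! Representing schemes of linked Grassmannians: points and charts. -/

set_option autoImplicit false

universe u

open AlgebraicGeometry CategoryTheory

namespace Groth.L13.LG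

variable {R : Type u} [CommRing R] {d n : ℕ} (r : ℕ) (f g : Fin n → ((Fin d → R) →ₗ[R] (Fin d → R)))

/-- the structure morphism of an affine scheme over `Spec R` -/
noncomputable abbrev str (A : CommAlgCat.{u} R) : Spec (CommRingCat.of A) ⟶ Spec (CommRingCat.of R) :=
  Spec.map (CommRingCat.ofHom (algebraMap R A))

/-- a scheme representing the linked Grassmannian functor -/
structure Rep where
  X : Over (Spec (CommRingCat.of R))
  e : ∀ A : CommAlgCat.{u} R, (Over.mk (str A) ⟶ X) ≃ W4c1limliniiii.LGPoints R d r n f g A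
  he : ∀ (A B : CommAlgCat.{u} R) (φ : A ⟶ B) (x : Over.mk (str A) ⟶ X) (x' : Over.mk (str B) ⟶ X),
    x'.left = Spec.map (CommRingCat.ofHom φ.hom.toRingHom) ≫ x.left →
      ∀ i, (e B x').1 i = Module.Grassmannian.map φ.hom ((e A x).1 i)

variable {r f g}

/-- the morphism of affine schemes attached to an algebra map -/
noncomputable abbrev spec {A B : CommAlgCat.{u} R} (φ : A →ₐ[R] B) :
    Spec (CommRingCat.of B) ⟶ Spec (CommRingCat.of A) :=
  Spec.map (CommRingCat.ofHom φ.toRingHom)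

theorem spec_str {A B : CommAlgCat.{u} R} (φ : A →ₐ[R] B) : spec φ ≫ str A = str B := by
  rw [← Spec.map_comp, ← CommRingCat.ofHom_comp]
  exact congrArg (fun h => Spec.map (CommRingCat.ofHom h)) φ.comp_algebraMap

theorem mem_range_spec_iff {A K : CommAlgCat.{u} R} (hK : IsField (K : Type u)) (φ : A →ₐ[R] K)
    (p : Spec (CommRingCat.of A)) :
    p ∈ Set.range (spec φ) ↔ (p : PrimeSpectrum A).asIdeal = RingHom.ker φ.toRingHom := by
  letI := hK.toField
  constructor
  · rintro ⟨q, rfl⟩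
    show Ideal.comap φ.toRingHom (q : PrimeSpectrum K).asIdeal = _
    rw [(Ideal.eq_bot_or_top (q : PrimeSpectrum K).asIdeal).resolve_right (q : PrimeSpectrum K).isPrime.ne_top,
      RingHom.ker]
  · intro h
    refine ⟨(⟨⊥, Ideal.isPrime_bot⟩ : PrimeSpectrum K), PrimeSpectrum.ext ?_⟩
    rw [h]
    rfl

namespace Rep

variable (D : Rep r f g)

/-- the chain of a point -/
noncomputable def val {A : CommAlgCat.{u} R} (x : Over.mk (str A) ⟶ D.X) : ℕ → Submodule A (Fin d → A) :=
  sub (D.e A x).1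

theorem isPt_val {A : CommAlgCat.{u} R} (x : Over.mk (str A) ⟶ D.X) : IsPt f g r A (D.val x) :=
  isPt_sub _ (D.e A x).2

theorem val_ext {A : CommAlgCat.{u} R} {x y : Over.mk (str A) ⟶ D.X} (h : ∀ i ≤ n, D.val x i = D.val y i) :
    x = y :=
  (D.e A).injective (Subtype.ext (sub_injective h))

theorem val_comp {A B : CommAlgCat.{u} R} (φ : A →ₐ[R] B) (x : Over.mk (str A) ⟶ D.X)
    (x' : Over.mk (str B) ⟶ D.X) (h : x'.left = spec φ ≫ x.left) {i : ℕ} (hi : i ≤ n) :
    D.val x' i = mapV φ.toRingHom (D.val x i) :=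
  sub_map φ _ _ (D.he A B (CommAlgCat.ofHom φ) x x' h) hi

/-- restriction of a point along an algebra map -/
noncomputable def res {A B : CommAlgCat.{u} R} (φ : A →ₐ[R] B) (x : Over.mk (str A) ⟶ D.X) :
    Over.mk (str B) ⟶ D.X :=
  Over.homMk (spec φ ≫ x.left) (by
    have := Over.w x
    simp only [Over.mk_hom] at this ⊢
    rw [Category.assoc, this, spec_str])

@[simp] theorem res_left {A B : CommAlgCat.{u} R} (φ : A →ₐ[R] B) (x : Over.mk (str A) ⟶ D.X) :
    (D.res φ x).left = spec φ ≫ x.left := rfl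

theorem val_res {A B : CommAlgCat.{u} R} (φ : A →ₐ[R] B) (x : Over.mk (str A) ⟶ D.X) {i : ℕ} (hi : i ≤ n) :
    D.val (D.res φ x) i = mapV φ.toRingHom (D.val x i) :=
  D.val_comp φ x _ rfl hi

theorem exists_pt {A : CommAlgCat.{u} R} {V : ℕ → Submodule A (Fin d → A)} (h : IsPt f g r A V) :
    ∃ x : Over.mk (str A) ⟶ D.X, ∀ i ≤ n, D.val x i = V i := by
  obtain ⟨W, hW, hWV⟩ := exists_sub h
  refine ⟨(D.e A).symm ⟨W, hW⟩, fun i hi => ?_⟩
  rw [val, Equiv.apply_symm_apply]
  exact hWV i hi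

/-- the algebra structure on the source of a morphism to the scheme -/
theorem exists_alg {A₀ : CommRingCat.{u}} (q : Spec A₀ ⟶ D.X.left) :
    ∃ (_ : Algebra R A₀), str (CommAlgCat.of R A₀) = q ≫ D.X.hom :=
  ⟨(Spec.preimage (q ≫ D.X.hom)).hom.toAlgebra, Spec.map_preimage _⟩

/-- every point is the image of a field valued point -/
theorem exists_field_pt (p : D.X.left) :
    ∃ (K : CommAlgCat.{u} R) (_ : IsField (K : Type u)) (x : Over.mk (str K) ⟶ D.X), Set.range x.left = {p} := by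
  obtain ⟨a, ha⟩ := D.exists_alg (D.X.left.fromSpecResidueField p)
  exact ⟨CommAlgCat.of R (D.X.left.residueField p), Field.toIsField _,
    Over.homMk (D.X.left.fromSpecResidueField p) ha.symm, Scheme.range_fromSpecResidueField _⟩

theorem mem_range_of_val_eq {A B : CommAlgCat.{u} R} (φ : A →ₐ[R] B) (x : Over.mk (str A) ⟶ D.X)
    (x' : Over.mk (str B) ⟶ D.X) (h : ∀ i ≤ n, D.val x' i = mapV φ.toRingHom (D.val x i)) :
    x'.left = spec φ ≫ x.left := by
  rw [← D.res_left φ x]
  congr 1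
  exact D.val_ext fun i hi => (h i hi).trans (D.val_res φ x hi).symm

/-- the two ends of a point over a local ring: the generic one specialises to the closed one -/
theorem specializes {O K k : CommAlgCat.{u} R} (hK : IsField (K : Type u)) (hk : IsField (k : Type u))
    [IsLocalRing O] (ι : O →ₐ[R] K) (ev : O →ₐ[R] k) (hev : RingHom.ker ev.toRingHom = IsLocalRing.maximalIdeal O)
    {V : ℕ → Submodule O (Fin d → O)} (hV : IsPt f g r O V)
    (x : Over.mk (str K) ⟶ D.X) (y : Over.mk (str k) ⟶ D.X)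
    (hx : ∀ i ≤ n, D.val x i = mapV ι.toRingHom (V i)) (hy : ∀ i ≤ n, D.val y i = mapV ev.toRingHom (V i))
    {p q : D.X.left} (hp : p ∈ Set.range x.left) (hq : q ∈ Set.range y.left) : p ⤳ q := by
  obtain ⟨z, hz⟩ := D.exists_pt hV
  obtain ⟨a, rfl⟩ := hp
  obtain ⟨b, rfl⟩ := hq
  rw [D.mem_range_of_val_eq ι z x fun i hi => by rw [hx i hi, hz i hi],
    D.mem_range_of_val_eq ev z y fun i hi => by rw [hy i hi, hz i hi]]
  show z.left (spec ι a) ⤳ z.left (spec ev b)
  refine Specializes.map ?_ z.left.continuous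
  refine (PrimeSpectrum.le_iff_specializes _ _).1 ?_
  show (spec ι a : PrimeSpectrum O).asIdeal ≤ (spec ev b : PrimeSpectrum O).asIdeal
  rw [(mem_range_spec_iff hk ev (spec ev b)).1 ⟨b, rfl⟩, hev]
  exact IsLocalRing.le_maximalIdeal (spec ι a : PrimeSpectrum O).isPrime.ne_top

end Rep

/-- a chart: a universal chain classifying the chains with some property -/
structure ChartData (r : ℕ) (f g : Fin n → ((Fin d → R) →ₗ[R] (Fin d → R))) where
  B : CommAlgCat.{u} R
  W : ℕ → Submodule B (Fin d → B)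
  isPt : IsPt f g r B W
  good : ∀ A : CommAlgCat.{u} R, (ℕ → Submodule A (Fin d → A)) → Prop
  good_congr : ∀ {A : CommAlgCat.{u} R} {V V' : ℕ → Submodule A (Fin d → A)},
    (∀ i ≤ n, V i = V' i) → good A V → good A V'
  good_univ : good B W
  good_map : ∀ {A A' : CommAlgCat.{u} R} (φ : A →ₐ[R] A') {V : ℕ → Submodule A (Fin d → A)},
    good A V → good A' fun i => mapV φ.toRingHom (V i)
  good_local : ∀ {A K : CommAlgCat.{u} R}, IsField (K : Type u) → ∀ (φ : A →ₐ[R] K)
    {V : ℕ → Submodule A (Fin d → A)}, IsPt f g r A V → good K (fun i => mapV φ.toRingHom (V i)) →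
      ∃ h : A, φ h ≠ 0 ∧ good (CommAlgCat.of R (Localization.Away h))
        fun i => mapV (algebraMap A (Localization.Away h)) (V i)
  hom_exists : ∀ {A : CommAlgCat.{u} R} {V : ℕ → Submodule A (Fin d → A)}, IsPt f g r A V → good A V →
    ∃ φ : B →ₐ[R] A, ∀ i ≤ n, mapV φ.toRingHom (W i) = V i
  hom_unique : ∀ {A : CommAlgCat.{u} R} (φ ψ : B →ₐ[R] A),
    (∀ i ≤ n, mapV φ.toRingHom (W i) = mapV ψ.toRingHom (W i)) → φ = ψ

namespace ChartData

variable (C : ChartData r f g) (D : Rep r f g)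

/-- the universal point -/
noncomputable def pt : Over.mk (str C.B) ⟶ D.X := Classical.choose (D.exists_pt C.isPt)

theorem val_pt {i : ℕ} (hi : i ≤ n) : D.val (C.pt D) i = C.W i := Classical.choose_spec (D.exists_pt C.isPt) i hi

/-- the chart morphism -/
noncomputable def map : Spec (CommRingCat.of C.B) ⟶ D.X.left := (C.pt D).left

theorem map_hom : C.map D ≫ D.X.hom = str C.B := Over.w (C.pt D)

theorem exists_lift {A : CommAlgCat.{u} R} (x : Over.mk (str A) ⟶ D.X) (h : C.good A (D.val x)) :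
    ∃ φ : C.B →ₐ[R] A, x.left = spec φ ≫ C.map D := by
  obtain ⟨φ, hφ⟩ := C.hom_exists (D.isPt_val x) h
  exact ⟨φ, D.mem_range_of_val_eq φ _ x fun i hi => by rw [C.val_pt D hi, hφ i hi]⟩

theorem good_of_factor {A : CommAlgCat.{u} R} (x : Over.mk (str A) ⟶ D.X) (φ : C.B →ₐ[R] A)
    (h : x.left = spec φ ≫ C.map D) : C.good A (D.val x) :=
  C.good_congr (fun i hi => by rw [D.val_comp φ _ x h hi, C.val_pt D hi]) (C.good_map φ C.good_univ)

theorem map_mono : Mono (C.map D) := by
  refine ⟨fun {T} t₁ t₂ h => ?_⟩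
  refine T.affineCover.hom_ext _ _ fun i => ?_
  suffices key : ∀ (A₀ : CommRingCat.{u}) (a b : Spec A₀ ⟶ Spec (CommRingCat.of C.B)),
      a ≫ C.map D = b ≫ C.map D → a = b from
    key _ _ _ ((Category.assoc _ _ _).trans ((congrArg _ h).trans (Category.assoc _ _ _).symm))
  intro A₀ a b hab
  obtain ⟨ia, ha⟩ := D.exists_alg (a ≫ C.map D)
  have key : ∀ t : Spec A₀ ⟶ Spec (CommRingCat.of C.B), t ≫ C.map D = a ≫ C.map D →
      ∃ φ : C.B →ₐ[R] CommAlgCat.of R A₀, t = spec φ := by
    intro t ht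
    have h1 : t ≫ str C.B = str (CommAlgCat.of R A₀) := by rw [← C.map_hom D, ← Category.assoc, ht, ha]
    rw [← Spec.map_preimage t, ← Spec.map_comp] at h1
    refine ⟨⟨(Spec.preimage t).hom, fun x => RingHom.congr_fun (congrArg CommRingCat.Hom.hom (Spec.map_injective h1)) x⟩,
      (Spec.map_preimage t).symm⟩
  obtain ⟨φ, rfl⟩ := key a rfl
  obtain ⟨ψ, rfl⟩ := key b hab.symm
  have : φ = ψ := C.hom_unique φ ψ fun i hi => by
    have hres : D.res φ (C.pt D) = D.res ψ (C.pt D) := Over.OverMorphism.ext hab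
    rw [← C.val_pt D hi, ← D.val_res φ _ hi, ← D.val_res ψ _ hi, hres]
  rw [this]

theorem mem_range_iff (p : D.X.left) :
    p ∈ Set.range (C.map D) ↔
      ∃ (K : CommAlgCat.{u} R) (_ : IsField (K : Type u)) (x : Over.mk (str K) ⟶ D.X),
        p ∈ Set.range x.left ∧ C.good K (D.val x) := by
  constructor
  · rintro ⟨q, rfl⟩
    haveI := (q : PrimeSpectrum C.B).isPrime
    let K : CommAlgCat.{u} R := CommAlgCat.of R (q : PrimeSpectrum C.B).asIdeal.ResidueField
    let φ : C.B →ₐ[R] K := IsScalarTower.toAlgHom R C.B (q : PrimeSpectrum C.B).asIdeal.ResidueField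
    have hK : IsField (K : Type u) := Field.toIsField (q : PrimeSpectrum C.B).asIdeal.ResidueField
    refine ⟨K, hK, D.res φ (C.pt D), ?_, C.good_of_factor D _ φ rfl⟩
    obtain ⟨a, ha⟩ := (mem_range_spec_iff hK φ q).2
      (Ideal.ker_algebraMap_residueField (q : PrimeSpectrum C.B).asIdeal).symm
    exact ⟨a, congrArg (C.map D) ha⟩
  · rintro ⟨K, -, x, ⟨a, rfl⟩, hgood⟩
    obtain ⟨φ, hφ⟩ := C.exists_lift D x hgood
    exact ⟨spec φ a, by rw [hφ]; rfl⟩

/-- around any good point some affine open neighbourhood lifts to the chart -/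
theorem exists_nhd {p : D.X.left} (hp : p ∈ Set.range (C.map D)) :
    ∃ (A₀ : CommRingCat.{u}) (j : Spec A₀ ⟶ D.X.left) (s : Spec A₀ ⟶ Spec (CommRingCat.of C.B)),
      IsOpenImmersion j ∧ p ∈ Set.range j ∧ s ≫ C.map D = j := by
  obtain ⟨_, ⟨U, hU, rfl⟩, hpU, -⟩ :=
    D.X.left.isBasis_affineOpens.exists_subset_of_mem_open (Set.mem_univ p) isOpen_univ
  obtain ⟨_, ha⟩ := D.exists_alg hU.fromSpec
  let A : CommAlgCat.{u} R := CommAlgCat.of R Γ(D.X.left, U)
  let x : Over.mk (str A) ⟶ D.X := Over.homMk hU.fromSpec ha.symm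
  obtain ⟨K, hK, x', ⟨c, hc⟩, hgood⟩ := (C.mem_range_iff D p).1 hp
  letI := hK.toField
  have hsub : Set.range x'.left ⊆ Set.range hU.fromSpec := by
    rintro _ ⟨c', rfl⟩
    have hbot : ∀ e : PrimeSpectrum K, e.asIdeal = ⊥ := fun e =>
      (Ideal.eq_bot_or_top e.asIdeal).resolve_right e.isPrime.ne_top
    have : c' = c := PrimeSpectrum.ext ((hbot c').trans (hbot c).symm)
    rw [this, hc, hU.range_fromSpec]
    exact hpU
  haveI : IsOpenImmersion hU.fromSpec := hU.isOpenImmersion_fromSpec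
  let t := IsOpenImmersion.lift hU.fromSpec x'.left hsub
  have ht : t ≫ hU.fromSpec = x'.left := IsOpenImmersion.lift_fac _ _ _
  have h1 : t ≫ str A = str K := by
    rw [ha, ← Category.assoc, ht]; exact Over.w x'
  rw [← Spec.map_preimage t, ← Spec.map_comp] at h1
  let φ : A →ₐ[R] K :=
    ⟨(Spec.preimage t).hom, fun a => RingHom.congr_fun (congrArg CommRingCat.Hom.hom (Spec.map_injective h1)) a⟩
  have hφ : spec φ = t := Spec.map_preimage t
  obtain ⟨h, hh, hgood'⟩ := C.good_local hK φ (D.isPt_val x)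
    (C.good_congr (fun i hi => D.val_comp φ x x' (by rw [hφ]; exact ht.symm) hi) hgood)
  let Ah : CommAlgCat.{u} R := CommAlgCat.of R (Localization.Away h)
  let ψ : A →ₐ[R] Ah := IsScalarTower.toAlgHom R A (Localization.Away h)
  obtain ⟨χ, hχ⟩ := C.exists_lift D (D.res ψ x) (C.good_congr (fun i hi => (D.val_res ψ x hi).symm) hgood')
  haveI : IsOpenImmersion (spec ψ) :=
    IsOpenImmersion.of_isLocalization (R := CommRingCat.of A) (S := Localization.Away h) h
  refine ⟨CommRingCat.of Ah, spec ψ ≫ hU.fromSpec, spec χ, inferInstance, ?_, hχ.symm⟩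
  have hu : IsUnit (φ h) := (isUnit_iff_ne_zero).2 hh
  let φh : Ah →ₐ[R] K := ⟨IsLocalization.Away.lift (S := Localization.Away h) h hu, fun a => by
    show IsLocalization.Away.lift h hu (algebraMap R (Localization.Away h) a) = _
    rw [IsScalarTower.algebraMap_apply R A (Localization.Away h), IsLocalization.Away.lift_eq]
    exact φ.commutes a⟩
  have hcomp : spec φh ≫ spec ψ = t := by
    rw [← hφ, ← Spec.map_comp, ← CommRingCat.ofHom_comp]
    congr 2
    exact IsLocalization.Away.lift_comp h hu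
  refine ⟨spec φh c, ?_⟩
  rw [← hc, ← ht, ← hcomp]
  rfl

/-- charts are open immersions -/
theorem isOpenImmersion : IsOpenImmersion (C.map D) := by
  classical
  haveI := C.map_mono D
  choose A₀ j s hj hpj hs using fun p : Set.range (C.map D) => C.exists_nhd D p.2
  haveI := hj
  have hsub : ∀ p, Set.range (j p) ⊆ Set.range (C.map D) := fun p => by
    rintro _ ⟨a, rfl⟩; exact ⟨s p a, by rw [← hs p]; rfl⟩
  let U : D.X.left.Opens := ⟨Set.range (C.map D), isOpen_iff_forall_mem_open.2 fun p hp =>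
    ⟨_, hsub ⟨p, hp⟩, (hj _).base_open.isOpen_range, hpj ⟨p, hp⟩⟩⟩
  have hU : ∀ p, Set.range (j p) ⊆ Set.range U.ι := fun p => by rw [Scheme.Opens.range_ι]; exact hsub p
  let w : Spec (CommRingCat.of C.B) ⟶ U :=
    IsOpenImmersion.lift U.ι (C.map D) (by rw [Scheme.Opens.range_ι]; exact subset_rfl)
  have hw : w ≫ U.ι = C.map D := IsOpenImmersion.lift_fac _ _ _
  haveI : Mono w := by
    haveI : Mono (w ≫ U.ι) := hw.symm ▸ inferInstance
    exact mono_of_mono w U.ι
  let jU : ∀ p, Spec (A₀ p) ⟶ U := fun p => IsOpenImmersion.lift U.ι (j p) (hU p)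
  have hjU : ∀ p, jU p ≫ U.ι = j p := fun p => IsOpenImmersion.lift_fac _ _ _
  have hsU : ∀ p, s p ≫ w = jU p := fun p => by rw [← cancel_mono U.ι, Category.assoc, hw, hs, hjU]
  haveI : ∀ p, IsOpenImmersion (jU p) := fun p => by
    haveI : IsOpenImmersion (jU p ≫ U.ι) := (hjU p).symm ▸ hj p
    exact IsOpenImmersion.of_comp (jU p) U.ι
  let 𝒰 : U.toScheme.OpenCover := Scheme.Cover.mkOfCovers (Set.range (C.map D)) _ jU (fun x => by
    obtain ⟨a, ha⟩ := hpj ⟨U.ι x, x.2⟩
    exact ⟨⟨U.ι x, x.2⟩, a, U.ι.isOpenEmbedding.injective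
      ((congrArg (fun m : Spec (A₀ ⟨U.ι x, x.2⟩) ⟶ D.X.left => m a) (hjU _)).trans ha)⟩) (fun _ => inferInstance)
  let σ : U.toScheme ⟶ Spec (CommRingCat.of C.B) := 𝒰.glueMorphisms s fun p q => by
    refine (cancel_mono w).1 ?_
    exact (Category.assoc _ _ _).trans (((congrArg (_ ≫ ·) (hsU p)).trans Limits.pullback.condition).trans
      ((congrArg (_ ≫ ·) (hsU q)).symm.trans (Category.assoc _ _ _).symm))
  have hσ : σ ≫ w = 𝟙 _ := 𝒰.hom_ext _ _ fun p => by
    exact (Category.assoc _ _ _).symm.trans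
      ((congrArg (· ≫ w) (𝒰.ι_glueMorphisms _ _ p)).trans ((hsU p).trans (Category.comp_id _).symm))
  haveI : IsIso w := by
    haveI : IsSplitEpi w := IsSplitEpi.mk' ⟨σ, hσ⟩
    exact isIso_of_mono_of_isSplitEpi w
  rw [← hw]
  infer_instance

end ChartData

end Groth.L13.LG
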