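import Groth.Agent.L13.LG.Hyp
import Groth.Agent.L13.LG.ChartW
import Groth.Agent.L22.SchemeDim
import Mathlib.AlgebraicGeometry.Morphisms.Smooth
import Mathlib.AlgebraicGeometry.Morphisms.FinitePresentation
import Mathlib.RingTheory.Smooth.Basic
import Mathlib.RingTheory.KrullDimension.Polynomial
import Mathlib.RingTheory.Valuation.LocalSubring
import Mathlib.RingTheory.Flat.TorsionFree
import Mathlib.RingTheory.Bezout

/-! Local and global geometry of linked Grassmannians. -/

set_option autoImplicit false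

universe u

open AlgebraicGeometry CategoryTheory Module

namespace Groth.L13.LG

variable {R : Type u} [CommRing R] {d n r : ℕ} {f g : Fin n → ((Fin d → R) →ₗ[R] (Fin d → R))} {s : R}

namespace Rep

variable (D : Rep r f g)

theorem exists_chartW (hrd : r ≤ d) (p : D.X.left) :
    ∃ J : ℕ → (Fin r ↪ Fin d), p ∈ Set.range ((chartW f g J).map D) := by
  obtain ⟨K, _, _, x, hx⟩ := D.exists_field_pt' p
  have hch := chain_of_isPt hrd (D.isPt_val x)
  have hJ : ∀ i : {i : ℕ // i ≤ n}, ∃ J : Fin r ↪ Fin d, Minor J (D.val x i.1) := fun i => by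
    let b := Module.finBasisOfFinrankEq K (D.val x i.1) (hch.rank i.1 i.2)
    obtain ⟨J, hJ⟩ := exists_minor (fun l => (b l : Fin d → K))
      (b.linearIndependent.map' (D.val x i.1).subtype (Submodule.ker_subtype _))
    exact ⟨J, fun l => (b l : Fin d → K), fun l => (b l).2, hJ⟩
  choose J hJ using hJ
  refine ⟨fun i => J ⟨min i n, min_le_right i n⟩, ((chartW f g _).mem_range_iff D p).2
    ⟨CommAlgCat.of R K, Field.toIsField K, x, hx ▸ rfl, fun i hi => ?_⟩⟩
  have e : (⟨i, hi⟩ : {i : ℕ // i ≤ n}) = ⟨min i n, min_le_right i n⟩ := Subtype.ext (min_eq_left hi).symm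
  simp only [← e]
  exact hJ ⟨i, hi⟩

theorem locallyOfFinitePresentation (hrd : r ≤ d) : LocallyOfFinitePresentation D.X.hom := by
  choose J hJ using D.exists_chartW hrd
  haveI : ∀ p, IsOpenImmersion ((chartW f g (J p)).map D) := fun p => (chartW f g (J p)).isOpenImmersion D
  let 𝒰 : D.X.left.OpenCover := Scheme.Cover.mkOfCovers D.X.left _ (fun p => (chartW f g (J p)).map D)
    (fun x => ⟨x, hJ x⟩) (fun _ => inferInstance)
  haveI : ∀ p, IsAffine (𝒰.X p) := fun p =>
    inferInstanceAs (IsAffine (Spec (CommRingCat.of (chartW f g (J p)).B)))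
  rw [HasRingHomProperty.iff_of_source_openCover (P := @LocallyOfFinitePresentation) 𝒰]
  intro p
  have h : LocallyOfFinitePresentation ((chartW f g (J p)).map D ≫ D.X.hom) := by
    rw [ChartData.map_hom, HasRingHomProperty.Spec_iff (P := @LocallyOfFinitePresentation)]
    exact RingHom.finitePresentation_algebraMap.2 wring_finitePresentation
  exact (HasRingHomProperty.iff_of_isAffine (P := @LocallyOfFinitePresentation)
    (f := (chartW f g (J p)).map D ≫ D.X.hom)).1 h

theorem hasFrame_of_mem_chartE (H : Hyp f g s r) {o : Fin r → ℕ} {ho : ∀ l, o l ≤ n} {J : ℕ → (Fin r ↪ Fin d)}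
    {q : Fin r → Fin r} {p : D.X.left} (hp : p ∈ Set.range ((chartE f g o ho J q H.hI).map D)) :
    D.HasFrame p o := by
  obtain ⟨a, rfl⟩ := hp
  let C := chartE f g o ho J q H.hI
  haveI := (a : PrimeSpectrum C.B).isPrime
  let K : Type u := (a : PrimeSpectrum C.B).asIdeal.ResidueField
  let φ : C.B →ₐ[R] CommAlgCat.of R K := IsScalarTower.toAlgHom R C.B K
  let x := D.res φ (C.pt D)
  have hgood : C.good (CommAlgCat.of R K) (D.val x) := C.good_of_factor D x φ rfl
  obtain ⟨c, hc, hu⟩ := hgood
  obtain ⟨b, hb⟩ := (mem_range_spec_iff (Field.toIsField K) φ a).2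
    (Ideal.ker_algebraMap_residueField (a : PrimeSpectrum C.B).asIdeal).symm
  refine ⟨K, inferInstance, inferInstance, x, c, ⟨b, congrArg (C.map D) hb⟩, Fintype.card_fin r, ho, fun i hi => ?_⟩
  have hpt := D.isPt_val x
  exact ((hpt.bundle i hi).eq_span (J i) _
    (fun l => tr_mem (fun i h => ⟨hpt.mapF i h, hpt.mapG i h⟩) (ho l) hi (hc l).1) (hu i hi)).symm

theorem mem_chartE_of_exact (H : Hyp f g s r) {K : Type u} [Field K] [Algebra R K]
    {x : Over.mk (str (CommAlgCat.of R K)) ⟶ D.X} {p : D.X.left} (hp : p ∈ Set.range x.left)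
    (hex : Exact (nF K f) (nF K g) n (D.val x)) :
    ∃ (o : Fin r → ℕ) (ho : ∀ l, o l ≤ n) (J : ℕ → (Fin r ↪ Fin d)) (q : Fin r → Fin r),
      p ∈ Set.range ((chartE f g o ho J q H.hI).map D) := by
  obtain ⟨o, ho, J, q, hg⟩ := D.exists_chartE H x hex
  exact ⟨o, ho, J, q, ((chartE f g o ho J q H.hI).mem_range_iff D p).2
    ⟨CommAlgCat.of R K, Field.toIsField K, x, hp, hg⟩⟩

theorem mem_chartE_of_hasFrame (H : Hyp f g s r) {p : D.X.left} {o : Fin r → ℕ} (h : D.HasFrame p o) :
    ∃ (o' : Fin r → ℕ) (ho : ∀ l, o' l ≤ n) (J : ℕ → (Fin r ↪ Fin d)) (q : Fin r → Fin r),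
      p ∈ Set.range ((chartE f g o' ho J q H.hI).map D) := by
  obtain ⟨K, _, _, x, c, hp, hc⟩ := h
  exact D.mem_chartE_of_exact H hp (hc.exact (chain_of_isPt H.hrd (D.isPt_val x)) (linked_nF H.hI))

theorem smooth_at_exact (H : Hyp f g s r) {K : Type u} [Field K] [Algebra R K]
    {x : Over.mk (str (CommAlgCat.of R K)) ⟶ D.X} {p : D.X.left} (hp : p ∈ Set.range x.left)
    (hex : Exact (nF K f) (nF K g) n (D.val x)) : (D.X.hom.stalkMap p).hom.FormallySmooth := by
  obtain ⟨o, ho, J, q, a, rfl⟩ := D.mem_chartE_of_exact H hp hex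
  let C := chartE f g o ho J q H.hI
  haveI : IsOpenImmersion (C.map D) := C.isOpenImmersion D
  haveI : Algebra.Smooth R (ERing f g o J q) :=
    haveI : Algebra.Smooth (MvPolynomial (EVar o J) R) (ERing f g o J q) :=
      Algebra.Smooth.of_isLocalization_Away (eDelta f g o J q)
    haveI : Algebra.Smooth R (MvPolynomial (EVar o J) R) := ⟨inferInstance, inferInstance⟩
    Algebra.Smooth.comp R (MvPolynomial (EVar o J) R) (ERing f g o J q)
  haveI : Smooth (C.map D ≫ D.X.hom) := by
    rw [ChartData.map_hom, HasRingHomProperty.Spec_iff (P := @Smooth)]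
    exact RingHom.smooth_algebraMap.2 ‹Algebra.Smooth R (ERing f g o J q)›
  have h := (C.map D ≫ D.X.hom).smoothLocus_eq_top.ge (show a ∈ (⊤ : Scheme.Opens _) from trivial)
  rw [Scheme.Hom.mem_smoothLocus, Scheme.Hom.stalkMap_comp] at h
  exact (RingHom.FormallySmooth.respectsIso.cancel_right_isIso (D.X.hom.stalkMap (C.map D a))
    ((C.map D).stalkMap a)).1 h

variable [IsDomain R]

theorem exists_generic_chartE (H : Hyp f g s r) {o : Fin r → ℕ} {ho : ∀ l, o l ≤ n} {J : ℕ → (Fin r ↪ Fin d)}
    {q : Fin r → Fin r} {p : D.X.left} (hp : p ∈ Set.range ((chartE f g o ho J q H.hI).map D)) :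
    eDelta f g o J q ≠ 0 ∧
      ∃ e ∈ Set.range ((chartE f g o ho J q H.hI).map D), ∀ z ∈ Set.range ((chartE f g o ho J q H.hI).map D), e ⤳ z := by
  obtain ⟨a, rfl⟩ := hp
  have hΔ : eDelta f g o J q ≠ 0 := by
    intro h0
    have h1 := IsLocalization.Away.algebraMap_isUnit (S := ERing f g o J q) (eDelta f g o J q)
    have h2 : algebraMap (MvPolynomial (EVar o J) R) (ERing f g o J q) (eDelta f g o J q) = 0 :=
      (congrArg _ h0).trans (map_zero _)
    rw [h2, isUnit_zero_iff] at h1
    exact (a : PrimeSpectrum (ERing f g o J q)).isPrime.ne_top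
      ((Ideal.eq_top_iff_one _).2 (h1 ▸ zero_mem (a : PrimeSpectrum (ERing f g o J q)).asIdeal))
  haveI : IsDomain (ERing f g o J q) := IsLocalization.isDomain_localization (powers_le_nonZeroDivisors_of_noZeroDivisors hΔ)
  let z₀ : Spec (CommRingCat.of (chartE f g o ho J q H.hI).B) :=
    (⟨⊥, Ideal.isPrime_bot⟩ : PrimeSpectrum (ERing f g o J q))
  refine ⟨hΔ, _, ⟨z₀, rfl⟩, ?_⟩
  rintro _ ⟨b, rfl⟩
  exact Specializes.map ((PrimeSpectrum.le_iff_specializes (R := ERing f g o J q) _ _).1 bot_le)
    ((chartE f g o ho J q H.hI).map D).continuous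

/-- the component through a point of an exact chart is the closure of the generic point of the chart -/
theorem component_eq_of_mem_chartE (H : Hyp f g s r) {o : Fin r → ℕ} {ho : ∀ l, o l ≤ n} {J : ℕ → (Fin r ↪ Fin d)}
    {q : Fin r → Fin r} {p : D.X.left} (hp : p ∈ Set.range ((chartE f g o ho J q H.hI).map D))
    {e : D.X.left} (he : ∀ z ∈ Set.range ((chartE f g o ho J q H.hI).map D), e ⤳ z)
    {Z : Set D.X.left} (hZ : Z ∈ irreducibleComponents D.X.left) (hpZ : p ∈ Z) : Z = closure {e} := by
  haveI := (chartE f g o ho J q H.hI).isOpenImmersion D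
  have hz : IsGenericPoint hZ.1.genericPoint Z :=
    hZ.1.isGenericPoint_genericPoint (isClosed_of_mem_irreducibleComponents Z hZ)
  have hzU : hZ.1.genericPoint ∈ Set.range ((chartE f g o ho J q H.hI).map D) :=
    (hz.specializes hpZ).mem_open ((chartE f g o ho J q H.hI).map D).isOpenEmbedding.isOpen_range hp
  have hle : Z ⊆ closure {e} :=
    hz.def ▸ closure_minimal (Set.singleton_subset_iff.2 (he _ hzU).mem_closure) isClosed_closure
  exact subset_antisymm hle (hZ.2 isIrreducible_singleton.closure hle)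

theorem isExact_iff_components (H : Hyp f g s r) {K : Type u} [Field K] [Algebra R K]
    (hK : Function.Injective (algebraMap R K))
    {x : Over.mk (str (CommAlgCat.of R K)) ⟶ D.X} {p : D.X.left} (hp : p ∈ Set.range x.left) :
    ¬ Exact (nF K f) (nF K g) n (D.val x) ↔
      ∃ Z₁ ∈ irreducibleComponents D.X.left, ∃ Z₂ ∈ irreducibleComponents D.X.left,
        Z₁ ≠ Z₂ ∧ p ∈ Z₁ ∧ p ∈ Z₂ := by
  constructor
  · intro hex
    obtain ⟨hs, o, o', η, η', hη, hη', hηp, hη'p, i, hi, hne⟩ := D.exists_two_eta H hp hex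
    have hsR : s = 0 := hK (hs.trans (map_zero _).symm)
    have hs0 : ∀ (L : Type u) [Field L] [Algebra R L], algebraMap R L s = 0 := fun L _ _ => by rw [hsR, map_zero]
    have hcnt : ∀ {z : D.X.left} {o₁ o₂ : Fin r → ℕ}, D.HasFrame z o₁ → D.HasFrame z o₂ →
        Fintype.card {l // o₁ l ≤ i} = Fintype.card {l // o₂ l ≤ i} := by
      intro z o₁ o₂ h₁ h₂
      obtain ⟨L, _, _, y, hy⟩ := D.exists_field_pt' z
      have hz : z ∈ Set.range y.left := hy ▸ rfl
      exact (D.cnt_eq H h₁ hz (hs0 L) hi (D.val y i) rfl).symm.trans (D.cnt_eq H h₂ hz (hs0 L) hi (D.val y i) rfl)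
    obtain ⟨Z, hZ, hηZ⟩ := exists_mem_irreducibleComponents_subset_of_isIrreducible (closure {η})
      isIrreducible_singleton.closure
    obtain ⟨Z', hZ', hηZ'⟩ := exists_mem_irreducibleComponents_subset_of_isIrreducible (closure {η'})
      isIrreducible_singleton.closure
    refine ⟨Z, hZ, Z', hZ', ?_, hηZ hηp.mem_closure, hηZ' hη'p.mem_closure⟩
    intro hZZ
    subst hZZ
    obtain ⟨oE, ho, J, q, hU⟩ := D.mem_chartE_of_hasFrame H hη.hasFrame
    obtain ⟨oE', ho', J', q', hU'⟩ := D.mem_chartE_of_hasFrame H hη'.hasFrame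
    obtain ⟨-, e, heU, he⟩ := D.exists_generic_chartE H hU
    obtain ⟨-, e', heU', he'⟩ := D.exists_generic_chartE H hU'
    have h1 := D.component_eq_of_mem_chartE H hU he hZ (hηZ (subset_closure rfl))
    have h2 := D.component_eq_of_mem_chartE H hU' he' hZ (hηZ' (subset_closure rfl))
    have hee : e = e' := IsGenericPoint.eq (show IsGenericPoint e Z from h1.symm) h2.symm
    subst hee
    exact hne (((hcnt hη.hasFrame (D.hasFrame_of_mem_chartE H hU)).trans
      (hcnt (D.hasFrame_of_mem_chartE H heU) (D.hasFrame_of_mem_chartE H heU'))).trans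
      (hcnt (D.hasFrame_of_mem_chartE H hU') hη'.hasFrame))
  · rintro ⟨Z₁, hZ₁, Z₂, hZ₂, hne, hp₁, hp₂⟩ hex
    obtain ⟨o, ho, J, q, hU⟩ := D.mem_chartE_of_exact H hp hex
    obtain ⟨-, e, heU, he⟩ := D.exists_generic_chartE H hU
    exact hne ((D.component_eq_of_mem_chartE H hU he hZ₁ hp₁).trans (D.component_eq_of_mem_chartE H hU he hZ₂ hp₂).symm)

/-- every component of the space is the closure of a point lying over the generic point of the base -/
theorem exists_pt_generic (H : Hyp f g s r) {Z : Set D.X.left} (hZ : Z ∈ irreducibleComponents D.X.left) :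
    ∃ (L : Type u) (_ : Field L) (_ : Algebra R L) (x : Over.mk (str (CommAlgCat.of R L)) ⟶ D.X) (η : D.X.left),
      Function.Injective (algebraMap R L) ∧ η ∈ Set.range x.left ∧ η ∈ Z := by
  obtain ⟨o, η, hη, hcl⟩ := D.exists_eta_of_component H hZ
  obtain ⟨x, hx, -, -⟩ := hη
  refine ⟨GField R d r, inferInstance, inferInstance, x, η, ?_, hx, hcl ▸ subset_closure rfl⟩
  rw [IsScalarTower.algebraMap_eq R (GPoly R d r) (GField R d r)]
  exact (IsFractionRing.injective (GPoly R d r) (GField R d r)).comp (MvPolynomial.C_injective _ _)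

omit [IsDomain R] in
/-- the lattice of a subspace over a valuation ring is a subbundle -/
theorem isBundle_lattice {L : Type u} [Field L] (O : ValuationSubring L) (W : Submodule L (Fin d → L))
    (hW : finrank L W = r) :
    ∃ W' : Submodule O (Fin d → O), IsBundle r W' ∧ mapV (algebraMap O L) W' = W ∧
      ∀ y, vmap (algebraMap O L) y ∈ W → y ∈ W' := by
  let v : (Fin d → O) →ₗ[O] (Fin d → L) :=
    { toFun := vmap (algebraMap O L)
      map_add' := vmap_add _
      map_smul' := fun a y => by rw [vmap_smul]; rfl }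
  let W' : Submodule O (Fin d → O) := (W.restrictScalars O).comap v
  have hsat : ∀ (a : O) (y : Fin d → O), a ≠ 0 → a • y ∈ W' → y ∈ W' := by
    intro a y ha h
    have h' : algebraMap O L a • vmap (algebraMap O L) y ∈ W := by rw [← vmap_smul]; exact h
    have ha' : algebraMap O L a ≠ 0 := fun h0 => ha (IsFractionRing.injective O L (h0.trans (map_zero _).symm))
    have := W.smul_mem (algebraMap O L a)⁻¹ h'
    rwa [inv_smul_smul₀ ha'] at this
  haveI : Module.IsTorsionFree O ((Fin d → O) ⧸ W') := by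
    rw [Submodule.isTorsionFree_iff_torsion_eq_bot, eq_bot_iff]
    rintro z ⟨⟨a, ha⟩, haz⟩
    obtain ⟨y, rfl⟩ := Submodule.mkQ_surjective W' z
    refine (Submodule.Quotient.mk_eq_zero W').2 (hsat a y (nonZeroDivisors.ne_zero ha) ?_)
    exact (Submodule.Quotient.mk_eq_zero W').1 haz
  haveI : Module.Flat O ((Fin d → O) ⧸ W') :=
    Module.Flat.flat_iff_torsion_eq_bot_of_isBezout.2 (Submodule.isTorsionFree_iff_torsion_eq_bot.1 inferInstance)
  haveI : Module.Free O ((Fin d → O) ⧸ W') := Module.free_of_flat_of_isLocalRing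
  obtain ⟨σ, hσ⟩ := Module.projective_lifting_property W'.mkQ LinearMap.id W'.mkQ_surjective
  haveI : Module.Finite O W' := Module.Finite.of_surjective
    (((LinearMap.id : (Fin d → O) →ₗ[O] (Fin d → O)) - σ ∘ₗ W'.mkQ).codRestrict W' fun y => by
      refine (Submodule.Quotient.mk_eq_zero W').1 ?_
      show W'.mkQ (y - σ (W'.mkQ y)) = 0
      rw [map_sub, show W'.mkQ (σ (W'.mkQ y)) = W'.mkQ y from LinearMap.congr_fun hσ _, sub_self])
    fun w => ⟨w.1, Subtype.ext (by
      show w.1 - σ (W'.mkQ w.1) = w.1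
      rw [show W'.mkQ w.1 = 0 from (Submodule.Quotient.mk_eq_zero W').2 w.2, map_zero, sub_zero])⟩
  haveI : Module.IsTorsionFree O W' := inferInstance
  haveI : Module.Flat O W' :=
    Module.Flat.flat_iff_torsion_eq_bot_of_isBezout.2 (Submodule.isTorsionFree_iff_torsion_eq_bot.1 inferInstance)
  haveI : Module.Free O W' := Module.free_of_flat_of_isLocalRing
  have hmap : mapV (algebraMap O L) W' = W := by
    refine le_antisymm (Submodule.span_le.2 (by rintro _ ⟨y, hy, rfl⟩; exact hy)) fun w hw => ?_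
    obtain ⟨⟨a, ha⟩, h⟩ := IsLocalization.exist_integer_multiples (nonZeroDivisors O) (Finset.univ : Finset (Fin d)) w
    choose y hy using fun c => h c (Finset.mem_univ c)
    have ha' : algebraMap O L a ≠ 0 := fun h0 =>
      nonZeroDivisors.ne_zero ha (IsFractionRing.injective O L (h0.trans (map_zero _).symm))
    have hyw : vmap (algebraMap O L) y = algebraMap O L a • w := funext fun c => by
      show algebraMap O L (y c) = _
      rw [hy c]; rfl
    have hym : y ∈ W' := by show vmap (algebraMap O L) y ∈ W; rw [hyw]; exact W.smul_mem _ hw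
    rw [← inv_smul_smul₀ ha' w, ← hyw]
    exact Submodule.smul_mem _ _ (vmap_mem _ hym)
  refine ⟨W', ⟨inferInstance, fun p => ?_⟩, hmap, fun y hy => hy⟩
  let b := Module.finBasis O W'
  have hli : LinearIndependent L fun j => vmap (algebraMap O L) (b j : Fin d → O) := by
    refine (LinearIndependent.iff_fractionRing O L).1 ?_
    exact (b.linearIndependent.map' W'.subtype (Submodule.ker_subtype W')).map' v
      (LinearMap.ker_eq_bot.2 fun y y' h => funext fun c => IsFractionRing.injective O L (congrFun h c))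
  have hrk : finrank O W' = r := by
    have e : W = Submodule.span L (Set.range fun j => vmap (algebraMap O L) (b j : Fin d → O)) := by
      have hW' : W' = Submodule.span O (Set.range fun j => (b j : Fin d → O)) := by
        rw [show (Set.range fun j => (b j : Fin d → O)) = W'.subtype '' Set.range b from Set.range_comp _ _,
          Submodule.span_image, b.span_eq, Submodule.map_top, Submodule.range_subtype]
      rw [← hmap]
      refine (congrArg (mapV (algebraMap O L)) hW').trans ?_
      rw [mapV_span, ← Set.range_comp]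
      rfl
    rw [← hW, e, finrank_span_eq_card hli, Fintype.card_fin]
  rw [rankAtStalk_eq_finrank_of_free, Pi.natCast_apply]
  let e : (Fin d → O) ≃ₗ[O] ((Fin d → O) ⧸ W') × W' :=
    { toFun := fun y => (W'.mkQ y, ⟨y - σ (W'.mkQ y), (Submodule.Quotient.mk_eq_zero W').1 (by
          show W'.mkQ (y - σ (W'.mkQ y)) = 0
          rw [map_sub, show W'.mkQ (σ (W'.mkQ y)) = W'.mkQ y from LinearMap.congr_fun hσ _, sub_self])⟩)
      invFun := fun z => σ z.1 + z.2
      left_inv := fun y => by simp
      right_inv := fun z => by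
        have h1 : W'.mkQ (σ z.1) = z.1 := LinearMap.congr_fun hσ _
        have h2 : W'.mkQ (z.2 : Fin d → O) = 0 := (Submodule.Quotient.mk_eq_zero W').2 z.2.2
        refine Prod.ext ?_ (Subtype.ext ?_)
        · show W'.mkQ (σ z.1 + z.2) = z.1
          rw [map_add, h1, h2, add_zero]
        · show σ z.1 + z.2 - σ (W'.mkQ (σ z.1 + z.2)) = z.2
          rw [map_add, h1, h2, add_zero, add_sub_cancel_left]
      map_add' := fun y y' => by
        refine Prod.ext (map_add _ _ _) (Subtype.ext ?_)
        simp only [map_add, Prod.snd_add, Submodule.coe_add]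
        abel
      map_smul' := fun a y => by
        refine Prod.ext (map_smul _ _ _) (Subtype.ext ?_)
        simp [smul_sub] }
  have := e.finrank_eq
  rw [finrank_fin_fun, finrank_prod, hrk] at this
  show finrank O ((Fin d → O) ⧸ W') = d - r
  omega

omit [IsDomain R] in
/-- a chain over the fraction field of a valuation ring extends to the valuation ring -/
theorem exists_isPt_lattice (hrd : r ≤ d) {L : Type u} [Field L] [Algebra R L] (O : ValuationSubring L) [Algebra R O]
    [IsScalarTower R O L] (V : ℕ → Submodule L (Fin d → L)) (hpt : IsPt f g r L V) :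
    ∃ W : ℕ → Submodule O (Fin d → O), IsPt f g r O W ∧
      ∀ i ≤ n, mapV (IsScalarTower.toAlgHom R O L).toRingHom (W i) = V i := by
  choose W' hb hm hsat using fun i : {i : ℕ // i ≤ n} =>
    isBundle_lattice (r := r) O (V i.1) ((hpt.bundle i.1 i.2).finrank_eq hrd)
  refine ⟨fun i => if h : i ≤ n then W' ⟨i, h⟩ else ⊥, ⟨fun i hi => ?_, fun i hi y hy => ?_, fun i hi y hy => ?_⟩,
    fun i hi => ?_⟩
  · simp only [dif_pos hi]; exact hb _
  · rw [dif_pos (show i + 1 ≤ n from hi)]
    rw [dif_pos hi.le] at hy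
    refine hsat ⟨i + 1, hi⟩ _ ?_
    show vmap (IsScalarTower.toAlgHom R O L).toRingHom _ ∈ _
    rw [vmap_nF]
    exact hpt.mapF i hi _ ((hm ⟨i, hi.le⟩).le (vmap_mem _ hy))
  · rw [dif_pos hi.le]
    rw [dif_pos (show i + 1 ≤ n from hi)] at hy
    refine hsat ⟨i, hi.le⟩ _ ?_
    show vmap (IsScalarTower.toAlgHom R O L).toRingHom _ ∈ _
    rw [vmap_nF]
    exact hpt.mapG i hi _ ((hm ⟨i + 1, hi⟩).le (vmap_mem _ hy))
  · simp only [dif_pos hi]
    exact hm ⟨i, hi⟩

theorem image_eq_univ (H : Hyp f g s r) {Z : Set D.X.left} (hZ : Z ∈ irreducibleComponents D.X.left) :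
    D.X.hom '' Z = Set.univ := by
  refine Set.eq_univ_of_forall fun P => ?_
  obtain ⟨L, _, _, x, η, hinj, hη, hηZ⟩ := D.exists_pt_generic H hZ
  let j : R →+* (algebraMap R L).range := (algebraMap R L).rangeRestrict
  let e : R ≃+* (algebraMap R L).range :=
    RingEquiv.ofBijective j ⟨fun a b h => hinj (congrArg Subtype.val h), RingHom.rangeRestrict_surjective _⟩
  let I : Ideal (algebraMap R L).range := Ideal.comap e.symm.toRingHom (P : PrimeSpectrum R).asIdeal
  haveI := (P : PrimeSpectrum R).isPrime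
  haveI : I.IsPrime := Ideal.IsPrime.comap _
  obtain ⟨O, hO⟩ := (LocalSubring.ofPrime (algebraMap R L).range I).exists_le_valuationSubring
  have hR : ∀ a, algebraMap R L a ∈ O := fun a =>
    ((LocalSubring.le_ofPrime _ _).trans hO.1) ⟨a, rfl⟩
  let toO : R →+* O := (algebraMap R L).codRestrict O.toSubring hR
  letI : Algebra R O := toO.toAlgebra
  haveI : IsScalarTower R O L := IsScalarTower.of_algebraMap_eq fun a => rfl
  let ι : O →ₐ[R] L := IsScalarTower.toAlgHom R O L
  have hP : ∀ a : R, toO a ∈ IsLocalRing.maximalIdeal O ↔ a ∈ (P : PrimeSpectrum R).asIdeal := by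
    intro a
    let a' : (LocalSubring.ofPrime (algebraMap R L).range I).toSubring :=
      ⟨algebraMap R L a, LocalSubring.le_ofPrime _ _ ⟨a, rfl⟩⟩
    rw [IsLocalRing.mem_maximalIdeal, mem_nonunits_iff, ← not_iff_not, not_not]
    haveI := hO.2
    refine Iff.trans (show IsUnit (toO a) ↔ IsUnit a' from isUnit_map_iff (Subring.inclusion hO.1) a') ?_
    refine Iff.trans (IsLocalization.AtPrime.isUnit_to_map_iff _ I (j a)) ?_
    show ¬ e.symm (e a) ∈ (P : PrimeSpectrum R).asIdeal ↔ _
    rw [RingEquiv.symm_apply_apply]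
  obtain ⟨W', hO', hW'⟩ := exists_isPt_lattice (r := r) (f := f) (g := g) H.hrd O (fun i => D.val x i) (D.isPt_val x)
  obtain ⟨z, hz⟩ := D.exists_pt (A := CommAlgCat.of R O) hO'
  have hx : x.left = spec (A := CommAlgCat.of R O) (B := CommAlgCat.of R L) ι ≫ z.left := by
    refine D.mem_range_of_val_eq (A := CommAlgCat.of R O) (B := CommAlgCat.of R L) ι z x fun i hi => ?_
    exact (hW' i hi).symm.trans (congrArg (mapV (IsScalarTower.toAlgHom R O L).toRingHom) (hz i hi).symm)
  obtain ⟨b, rfl⟩ := hη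
  let c : Spec (CommRingCat.of O) :=
    (⟨IsLocalRing.maximalIdeal O, Ideal.IsMaximal.isPrime inferInstance⟩ : PrimeSpectrum O)
  refine ⟨z.left c, ?_, ?_⟩
  · have hsp : x.left b ⤳ z.left c := by
      rw [hx]
      show z.left (spec (A := CommAlgCat.of R O) (B := CommAlgCat.of R L) ι b) ⤳ z.left c
      refine Specializes.map ?_ z.left.continuous
      exact (PrimeSpectrum.le_iff_specializes (R := O) _ _).1
        (IsLocalRing.le_maximalIdeal (spec (A := CommAlgCat.of R O) (B := CommAlgCat.of R L) ι b : PrimeSpectrum O).isPrime.ne_top)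
    exact hsp.mem_closed (isClosed_of_mem_irreducibleComponents Z hZ) hηZ
  · show (z.left ≫ D.X.hom) c = P
    rw [show z.left ≫ D.X.hom = str (CommAlgCat.of R O) from Over.w z]
    exact PrimeSpectrum.ext (Ideal.ext hP)

theorem irreducibleSpace_of_ne_zero (H : Hyp f g s r) (hs : s ≠ 0) : IrreducibleSpace D.X.left := by
  let L := FractionRing R
  have hsL : algebraMap R L s ≠ 0 := fun h => hs (IsFractionRing.injective R L (h.trans (map_zero _).symm))
  have hL := linked_nF (A := L) H.hI
  let c : Fin r → Fin d → L := fun l => Pi.single (Fin.castLE H.hrd l) 1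
  have hc : LinearIndependent L c := (Pi.linearIndependent_single_one (Fin d) L).comp _ (Fin.castLE_injective _)
  let V : ℕ → Submodule L (Fin d → L) := fun i =>
    Submodule.span L (Set.range fun l => tr (nF L f) (nF L g) 0 i (c l))
  have hch : Chain (nF L f) (nF L g) n r V := by
    refine ⟨fun i hi => ?_, fun i hi y hy => ?_, fun i hi y hy => ?_⟩
    · exact (finrank_span_eq_card (hc.map' _ (LinearMap.ker_eq_bot.2 (tr_injective hsL hL i hi)))).trans (Fintype.card_fin r)
    · refine (Submodule.span_le (p := (V (i + 1)).comap (nF L f i))).2 ?_ hy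
      rintro _ ⟨l, rfl⟩
      rw [SetLike.mem_coe, Submodule.mem_comap, F_tr hL hi]
      exact Submodule.smul_mem _ _ (Submodule.subset_span ⟨l, rfl⟩)
    · refine (Submodule.span_le (p := (V i).comap (nF L g i))).2 ?_ hy
      rintro _ ⟨l, rfl⟩
      rw [SetLike.mem_coe, Submodule.mem_comap, G_tr hL hi]
      exact Submodule.smul_mem _ _ (Submodule.subset_span ⟨l, rfl⟩)
  obtain ⟨x, hx⟩ := D.exists_pt (A := CommAlgCat.of R L) (isPt_of_chain hch)
  let a : Spec (CommRingCat.of L) := (⟨⊥, Ideal.isPrime_bot⟩ : PrimeSpectrum L)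
  have hF : D.HasFrame (x.left a) fun _ => 0 :=
    ⟨L, inferInstance, inferInstance, x, c, ⟨a, rfl⟩, Fintype.card_fin r, fun _ => Nat.zero_le n,
      fun i hi => (hx i hi).symm⟩
  obtain ⟨η₀, hη₀, -⟩ := D.exists_eta_specializes H.hI H.hrd hF
  have huniv : closure {η₀} = Set.univ := by
    refine Set.eq_univ_of_forall fun p => ?_
    obtain ⟨o, η, hη, hp⟩ := D.exists_eta_gen H p
    obtain ⟨y, hy, hval, ho⟩ := hη
    have hsG : algebraMap R (GField R d r) s ≠ 0 := by
      rw [IsScalarTower.algebraMap_apply R (GPoly R d r) (GField R d r)]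
      exact fun h => hs (MvPolynomial.C_injective (Fin r × Fin d) R
        ((IsFractionRing.injective (GPoly R d r) (GField R d r) (h.trans (map_zero _).symm)).trans (map_zero _).symm))
    have hchy := chain_of_isPt H.hrd (D.isPt_val y)
    let bs := Module.finBasisOfFinrankEq (GField R d r) (D.val y 0) (hchy.rank 0 (Nat.zero_le n))
    have hF0 : D.HasFrame η fun _ => 0 := ⟨GField R d r, inferInstance, inferInstance, y,
      fun l => (bs l : Fin d → GField R d r), hy,
      isFrame_zero hsG (linked_nF H.hI) hchy (by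
        rw [show (Set.range fun l => (bs l : Fin d → GField R d r)) = (D.val y 0).subtype '' Set.range bs from
          Set.range_comp _ _, Submodule.span_image, bs.span_eq, Submodule.map_top, Submodule.range_subtype])
        (Fintype.card_fin r)⟩
    obtain ⟨η₁, hη₁, h₁⟩ := D.exists_eta_specializes H.hI H.hrd hF0
    rw [Rep.IsEta.unique D hη₁ hη₀] at h₁
    exact (h₁.trans hp).mem_closure
  haveI : Nonempty D.X.left := ⟨η₀⟩
  have hirr : IsIrreducible (Set.univ : Set D.X.left) := huniv ▸ isIrreducible_singleton.closure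
  exact (irreducibleSpace_def _).2 hirr

end Rep

end Groth.L13.LG
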