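import Groth.Agent.L13.LG.Deform
import Mathlib.AlgebraicGeometry.Properties

/-! Structure of linked Grassmannians: exact points, generisations, components. -/

set_option autoImplicit false

universe u

open AlgebraicGeometry CategoryTheory Module

namespace Groth.L13.LG

variable {R : Type u} [CommRing R] {d n r : ℕ} {f g : Fin n → ((Fin d → R) →ₗ[R] (Fin d → R))}

/-- the standing hypotheses -/
structure Hyp (f g : Fin n → ((Fin d → R) →ₗ[R] (Fin d → R))) (s : R) (r : ℕ) : Prop where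
  hrd : r ≤ d
  hI : ∀ i, (f i).comp (g i) = s • LinearMap.id ∧ (g i).comp (f i) = s • LinearMap.id
  deg : ∀ (K : Type u) [Field K] [Algebra R K], algebraMap R K s = 0 → Degenerate (nF K f) (nF K g) n

theorem exact_of_ne_zero {K : Type u} [Field K] {E : Type u} [AddCommGroup E] [Module K E]
    {F G : ℕ → E →ₗ[K] E} {V : ℕ → Submodule K E} {a : K} (ha : a ≠ 0) (hL : Linked F G n a) : Exact F G n V := by
  intro i hi
  constructor <;> intro x hx
  · have h0 : a • x = 0 := by rw [← (hL i hi).1, LinearMap.mem_ker.1 hx.1, map_zero]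
    rw [(smul_eq_zero_iff_right ha).1 h0]
    exact zero_mem _
  · have h0 : a • x = 0 := by rw [← (hL i hi).2, LinearMap.mem_ker.1 hx.1, map_zero]
    rw [(smul_eq_zero_iff_right ha).1 h0]
    exact zero_mem _

section Ext

variable {K L : Type u} [Field K] [Algebra R K] [Field L] [Algebra R L] (ψ : K →ₐ[R] L)

theorem map_mapV (W : Submodule K (Fin d → K)) (h : Fin n → ((Fin d → R) →ₗ[R] (Fin d → R))) (i : ℕ) :
    (mapV ψ.toRingHom W).map (nF L h i) = mapV ψ.toRingHom (W.map (nF K h i)) := by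
  rw [mapV, mapV, Submodule.map_span, Submodule.map_coe, Set.image_image, Set.image_image]
  congr 1
  exact Set.image_congr' fun x => (vmap_nF ψ h i x).symm

theorem finrank_map_mapV (W : Submodule K (Fin d → K)) (h : Fin n → ((Fin d → R) →ₗ[R] (Fin d → R))) (i : ℕ) :
    finrank L ((mapV ψ.toRingHom W).map (nF L h i)) = finrank K (W.map (nF K h i)) := by
  rw [map_mapV, finrank_mapV]

theorem exact_mapV_iff {s : R} (H : Hyp f g s r) {V : ℕ → Submodule K (Fin d → K)}
    (hV : IsPt f g r K V) (V' : ℕ → Submodule L (Fin d → L)) (hV' : IsPt f g r L V')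
    (hVV : ∀ i ≤ n, V' i = mapV ψ.toRingHom (V i)) :
    Exact (nF L f) (nF L g) n V' ↔ Exact (nF K f) (nF K g) n V := by
  have hs : algebraMap R L s = ψ (algebraMap R K s) := (ψ.commutes s).symm
  by_cases h0 : algebraMap R K s = 0
  · have hL0 : algebraMap R L s = 0 := by rw [hs, h0, map_zero]
    rw [exact_iff_finrank (h0 ▸ linked_nF H.hI) (chain_of_isPt H.hrd hV),
      exact_iff_finrank (hL0 ▸ linked_nF H.hI) (chain_of_isPt H.hrd hV')]
    refine forall₂_congr fun i hi => ?_
    rw [hVV i hi.le, hVV (i + 1) hi, finrank_map_mapV, finrank_map_mapV]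
  · have hL0 : algebraMap R L s ≠ 0 := by
      rw [hs]; exact fun h => h0 (ψ.injective (h.trans (map_zero ψ).symm))
    exact iff_of_true (exact_of_ne_zero hL0 (linked_nF H.hI)) (exact_of_ne_zero h0 (linked_nF H.hI))

end Ext

theorem cnt_lt_of_gens {K : Type u} [Field K] {E : Type u} [AddCommGroup E] [Module K E]
    {F G : ℕ → E →ₗ[K] E} {V : ℕ → Submodule K E} {S : ℕ → Set E} (Γ : Gens F G n r V S)
    (e : Fin r ≃ Fin Γ.M ⊕ Fin Γ.P) (a : Fin Γ.P) :
    Fintype.card {l // Sum.elim Γ.oM (fun b => Γ.oP b + 1) (e l) ≤ Γ.oP a} <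
      Fintype.card {l // Sum.elim Γ.oM Γ.oP (e l) ≤ Γ.oP a} := by
  refine Fintype.card_lt_of_injective_of_notMem
    (fun l => ⟨l.1, by
      have h := l.2
      rcases hl : e l.1 with b | b <;> simp only [hl, Sum.elim_inl, Sum.elim_inr] at h ⊢ <;> omega⟩)
    (fun l m h => Subtype.ext (congrArg (fun z => z.1) h)) (b := ⟨e.symm (.inr a), by simp⟩) ?_
  rintro ⟨⟨l, hl⟩, h⟩
  have : l = e.symm (.inr a) := congrArg (fun z => z.1) h
  subst this
  simp at hl

namespace Rep

variable (D : Rep r f g)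

theorem exists_field_pt' (p : D.X.left) :
    ∃ (K : Type u) (_ : Field K) (_ : Algebra R K) (x : Over.mk (str (CommAlgCat.of R K)) ⟶ D.X),
      Set.range x.left = {p} := by
  obtain ⟨_, ha⟩ := D.exists_alg (D.X.left.fromSpecResidueField p)
  exact ⟨D.X.left.residueField p, inferInstance, _, Over.homMk (D.X.left.fromSpecResidueField p) ha.symm,
    Scheme.range_fromSpecResidueField _⟩

/-- two field valued points at the same point come from the residue field -/
theorem exists_res {K L : Type u} [Field K] [Algebra R K] [Field L] [Algebra R L] {p : D.X.left}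
    {x : Over.mk (str (CommAlgCat.of R K)) ⟶ D.X} {y : Over.mk (str (CommAlgCat.of R L)) ⟶ D.X}
    (hx : p ∈ Set.range x.left) (hy : p ∈ Set.range y.left) :
    ∃ (k : Type u) (_ : Field k) (_ : Algebra R k) (z : Over.mk (str (CommAlgCat.of R k)) ⟶ D.X)
      (φ : k →ₐ[R] K) (ψ : k →ₐ[R] L), x.left = spec (A := CommAlgCat.of R k) (B := CommAlgCat.of R K) φ ≫ z.left ∧
        y.left = spec (A := CommAlgCat.of R k) (B := CommAlgCat.of R L) ψ ≫ z.left := by
  obtain ⟨_, ha⟩ := D.exists_alg (D.X.left.fromSpecResidueField p)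
  let z : Over.mk (str (CommAlgCat.of R (D.X.left.residueField p))) ⟶ D.X :=
    Over.homMk (D.X.left.fromSpecResidueField p) ha.symm
  suffices key : ∀ (M : Type u) [Field M] [Algebra R M] (w : Over.mk (str (CommAlgCat.of R M)) ⟶ D.X),
      p ∈ Set.range w.left → ∃ φ : D.X.left.residueField p →ₐ[R] M,
        w.left = spec (A := CommAlgCat.of R (D.X.left.residueField p)) (B := CommAlgCat.of R M) φ ≫ z.left by
    obtain ⟨φ, hφ⟩ := key K x hx
    obtain ⟨ψ, hψ⟩ := key L y hy
    exact ⟨D.X.left.residueField p, inferInstance, _, z, φ, ψ, hφ, hψ⟩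
  intro M _ _ w hw
  have hp : p = w.left (IsLocalRing.closedPoint M) :=
    D.range_subsingleton w hw ⟨_, rfl⟩
  obtain ⟨φ₀, hφ₀⟩ : ∃ φ₀ : D.X.left.residueField p ⟶ CommRingCat.of M,
      w.left = Spec.map φ₀ ≫ D.X.left.fromSpecResidueField p := by
    subst hp
    exact ⟨_, (Scheme.descResidueField_stalkClosedPointTo_fromSpecResidueField M D.X.left w.left).symm⟩
  have hw' : w.left ≫ D.X.hom = str (CommAlgCat.of R M) := Over.w w
  rw [hφ₀, Category.assoc, ← ha, ← Spec.map_comp] at hw'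
  refine ⟨⟨φ₀.hom, fun a => RingHom.congr_fun (congrArg CommRingCat.Hom.hom (Spec.map_injective hw')) a⟩, hφ₀⟩

theorem val_eq_mapV {K k : Type u} [Field K] [Algebra R K] [Field k] [Algebra R k] (φ : k →ₐ[R] K)
    {x : Over.mk (str (CommAlgCat.of R K)) ⟶ D.X} {z : Over.mk (str (CommAlgCat.of R k)) ⟶ D.X}
    (hφ : x.left = spec (A := CommAlgCat.of R k) (B := CommAlgCat.of R K) φ ≫ z.left) {i : ℕ} (hi : i ≤ n) :
    D.val x i = mapV φ.toRingHom (D.val z i) := D.val_comp (A := CommAlgCat.of R k) (B := CommAlgCat.of R K) φ z x hφ hi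

theorem exact_iff_of_mem' {s : R} (H : Hyp f g s r) {K k : Type u} [Field K] [Algebra R K] [Field k] [Algebra R k] (φ : k →ₐ[R] K)
    {x : Over.mk (str (CommAlgCat.of R K)) ⟶ D.X} {z : Over.mk (str (CommAlgCat.of R k)) ⟶ D.X}
    (hφ : x.left = spec (A := CommAlgCat.of R k) (B := CommAlgCat.of R K) φ ≫ z.left) :
    Exact (nF K f) (nF K g) n (D.val x) ↔ Exact (nF k f) (nF k g) n (D.val z) :=
  exact_mapV_iff φ H (V := fun i => D.val z i) (D.isPt_val z) (fun i => D.val x i) (D.isPt_val x) fun i hi => D.val_eq_mapV φ hφ hi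

theorem exact_iff_of_mem {s : R} (H : Hyp f g s r) {K L : Type u} [Field K] [Algebra R K] [Field L] [Algebra R L]
    {p : D.X.left} {x : Over.mk (str (CommAlgCat.of R K)) ⟶ D.X} {y : Over.mk (str (CommAlgCat.of R L)) ⟶ D.X}
    (hx : p ∈ Set.range x.left) (hy : p ∈ Set.range y.left) :
    Exact (nF K f) (nF K g) n (D.val x) ↔ Exact (nF L f) (nF L g) n (D.val y) := by
  obtain ⟨k, _, _, z, φ, ψ, hφ, hψ⟩ := D.exists_res hx hy
  exact (D.exact_iff_of_mem' H φ hφ).trans (D.exact_iff_of_mem' H ψ hψ).symm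

theorem finrank_map_val {K k : Type u} [Field K] [Algebra R K] [Field k] [Algebra R k] (φ : k →ₐ[R] K)
    {x : Over.mk (str (CommAlgCat.of R K)) ⟶ D.X} {z : Over.mk (str (CommAlgCat.of R k)) ⟶ D.X}
    (hφ : x.left = spec (A := CommAlgCat.of R k) (B := CommAlgCat.of R K) φ ≫ z.left) {i : ℕ} (hi : i ≤ n)
    (W : Submodule K (Fin d → K)) (hW : W = D.val x i) (W' : Submodule k (Fin d → k)) (hW' : W' = D.val z i) :
    finrank K (W.map (nF K f i)) = finrank k (W'.map (nF k f i)) := by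
  rw [hW.trans ((D.val_eq_mapV φ hφ hi).trans (congrArg (mapV φ.toRingHom) hW'.symm))]
  exact finrank_map_mapV φ W' f i

theorem exact_of_hasFrame {s : R} (H : Hyp f g s r) {p : D.X.left} {o : Fin r → ℕ} (h : D.HasFrame p o)
    {L : Type u} [Field L] [Algebra R L] {y : Over.mk (str (CommAlgCat.of R L)) ⟶ D.X}
    (hy : p ∈ Set.range y.left) : Exact (nF L f) (nF L g) n (D.val y) := by
  obtain ⟨K, _, _, x, c, hx, hc⟩ := h
  exact (D.exact_iff_of_mem H hx hy).1 (hc.exact (chain_of_isPt H.hrd (D.isPt_val x)) (linked_nF H.hI))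

/-- the multiplicities of a framed point are read off from the ranks -/
theorem cnt_eq {s : R} (H : Hyp f g s r) {p : D.X.left} {o : Fin r → ℕ} (h : D.HasFrame p o)
    {L : Type u} [Field L] [Algebra R L] {y : Over.mk (str (CommAlgCat.of R L)) ⟶ D.X}
    (hy : p ∈ Set.range y.left) (hs : algebraMap R L s = 0) {i : ℕ} (hi : i < n)
    (W : Submodule L (Fin d → L)) (hW : W = D.val y i) :
    finrank L (W.map (nF L f i)) = Fintype.card {l // o l ≤ i} := by
  obtain ⟨K, _, _, x, c, hx, hc⟩ := h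
  obtain ⟨k, _, _, z, φ, ψ, hφ, hψ⟩ := D.exists_res hx hy
  have h0 : algebraMap R k s = 0 := ψ.toRingHom.injective (((ψ.commutes s).trans hs).trans (map_zero _).symm)
  have hK0 : algebraMap R K s = 0 := by rw [← φ.commutes, h0, map_zero]
  let Z : Submodule k (Fin d → k) := D.val z i
  rw [D.finrank_map_val ψ hψ hi.le W hW Z rfl, ← D.finrank_map_val φ hφ hi.le (D.val x i) rfl Z rfl]
  exact hc.finrank_map (hK0 ▸ linked_nF H.hI) (chain_of_isPt H.hrd (D.isPt_val x)) hi

variable [IsDomain R]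

theorem exists_frame_specializes {s : R} (H : Hyp f g s r) (p : D.X.left) :
    ∃ (o : Fin r → ℕ) (q : D.X.left), q ⤳ p ∧ D.HasFrame q o := by
  obtain ⟨K, _, _, x, hx⟩ := D.exists_field_pt' p
  have hp : p ∈ Set.range x.left := hx ▸ rfl
  have hch := chain_of_isPt H.hrd (D.isPt_val x)
  by_cases hs : algebraMap R K s = 0
  · obtain ⟨G⟩ := exists_gens (H.deg K hs) hch (fun i => (D.val x i : Set (Fin d → K))) (fun i _ => Submodule.span_eq _)
    obtain ⟨⟨q, hq, hqF⟩, -⟩ := D.exists_frames_of_gens H.hI H.hrd hs hp G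
      ((finCongr G.card.symm).trans finSumFinEquiv.symm)
    exact ⟨_, q, hq, hqF⟩
  · let b := (Module.finBasisOfFinrankEq K (D.val x 0) (hch.rank 0 (Nat.zero_le n)))
    refine ⟨fun _ => 0, p, specializes_rfl, K, inferInstance, inferInstance, x, fun l => (b l : Fin d → K), hp,
      isFrame_zero hs (linked_nF H.hI) hch ?_ (Fintype.card_fin r)⟩
    rw [show (Set.range fun l => (b l : Fin d → K)) = (D.val x 0).subtype '' Set.range b from Set.range_comp _ _,
      Submodule.span_image, b.span_eq, Submodule.map_top, Submodule.range_subtype]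

theorem exists_eta_gen {s : R} (H : Hyp f g s r) (p : D.X.left) :
    ∃ (o : Fin r → ℕ) (η : D.X.left), D.IsEta o η ∧ η ⤳ p := by
  obtain ⟨o, q, hq, hF⟩ := D.exists_frame_specializes H p
  obtain ⟨η, hη, hηq⟩ := D.exists_eta_specializes H.hI H.hrd hF
  exact ⟨o, η, hη, hηq.trans hq⟩

theorem exists_two_eta {s : R} (H : Hyp f g s r) {K : Type u} [Field K] [Algebra R K]
    {x : Over.mk (str (CommAlgCat.of R K)) ⟶ D.X} {p : D.X.left} (hp : p ∈ Set.range x.left)
    (hex : ¬ Exact (nF K f) (nF K g) n (D.val x)) :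
    algebraMap R K s = 0 ∧ ∃ (o o' : Fin r → ℕ) (η η' : D.X.left), D.IsEta o η ∧ D.IsEta o' η' ∧ η ⤳ p ∧ η' ⤳ p ∧
      ∃ i < n, Fintype.card {l // o l ≤ i} ≠ Fintype.card {l // o' l ≤ i} := by
  have hs : algebraMap R K s = 0 := by
    by_contra hs
    exact hex (exact_of_ne_zero hs (linked_nF H.hI))
  obtain ⟨G⟩ := exists_gens (H.deg K hs) (chain_of_isPt H.hrd (D.isPt_val x)) (fun i => (D.val x i : Set (Fin d → K)))
    (fun i _ => Submodule.span_eq _)
  let e : Fin r ≃ Fin G.M ⊕ Fin G.P := (finCongr G.card.symm).trans finSumFinEquiv.symm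
  obtain ⟨⟨q, hq, hqF⟩, ⟨q', hq', hqF'⟩⟩ := D.exists_frames_of_gens H.hI H.hrd hs hp G e
  obtain ⟨η, hη, hηq⟩ := D.exists_eta_specializes H.hI H.hrd hqF
  obtain ⟨η', hη', hηq'⟩ := D.exists_eta_specializes H.hI H.hrd hqF'
  have hP : G.P ≠ 0 := fun h => hex (G.eq_zero_iff.1 h)
  exact ⟨hs, _, _, η, η', hη, hη', hηq.trans hq, hηq'.trans hq', G.oP ⟨0, Nat.pos_of_ne_zero hP⟩, G.oP_lt _,
    (cnt_lt_of_gens G e _).ne'⟩

omit [IsDomain R] in
theorem exists_chartE {s : R} (H : Hyp f g s r) {K : Type u} [Field K] [Algebra R K]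
    (x : Over.mk (str (CommAlgCat.of R K)) ⟶ D.X) (hex : Exact (nF K f) (nF K g) n (D.val x)) :
    ∃ (o : Fin r → ℕ) (ho : ∀ l, o l ≤ n) (J : ℕ → (Fin r ↪ Fin d)) (q : Fin r → Fin r),
      (chartE f g o ho J q H.hI).good (CommAlgCat.of R K) (D.val x) := by
  have hpt := D.isPt_val x
  have hch := chain_of_isPt H.hrd hpt
  have hJ : ∀ i : {i : ℕ // i ≤ n}, ∃ J : Fin r ↪ Fin d, Minor J (D.val x i.1) := fun i => by
    let b := Module.finBasisOfFinrankEq K (D.val x i.1) (hch.rank i.1 i.2)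
    obtain ⟨J, hJ⟩ := exists_minor (fun l => (b l : Fin d → K))
      (b.linearIndependent.map' (D.val x i.1).subtype (Submodule.ker_subtype _))
    exact ⟨J, fun l => (b l : Fin d → K), fun l => (b l).2, hJ⟩
  choose J hJ using hJ
  let J' : ℕ → (Fin r ↪ Fin d) := fun i => J ⟨min i n, min_le_right i n⟩
  have hJ' : ∀ i ≤ n, Minor (J' i) (D.val x i) := fun i hi => by
    have e : (⟨i, hi⟩ : {i : ℕ // i ≤ n}) = ⟨min i n, min_le_right i n⟩ := Subtype.ext (min_eq_left hi).symm
    simp only [J', ← e]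
    exact hJ ⟨i, hi⟩
  have hrow : ∀ i : {i : ℕ // i ≤ n}, ∃ b : Fin r → Fin d → K, (∀ l, b l ∈ D.val x i.1) ∧
      (∀ l m, b l (J' i.1 m) = (1 : Matrix (Fin r) (Fin r) K) l m) ∧ D.val x i.1 = Submodule.span K (Set.range b) :=
    fun i => exists_rows (hpt.bundle _ i.2) (hJ' _ i.2)
  choose b hbV hbδ hbspan using hrow
  obtain ⟨o, ho, q, c, hc, hfr⟩ : ∃ (o : Fin r → ℕ) (ho : ∀ l, o l ≤ n) (q : Fin r → Fin r) (c : Fin r → Fin d → K),
      (∀ l, c l = b ⟨o l, ho l⟩ (q l)) ∧ IsFrame (nF K f) (nF K g) n r (D.val x) o c := by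
    by_cases hs : algebraMap R K s = 0
    · obtain ⟨G⟩ := exists_gens (H.deg K hs) hch
        (fun i => if h : i ≤ n then Set.range (b ⟨i, h⟩) else ∅) (fun i hi => by rw [dif_pos hi]; exact (hbspan ⟨i, hi⟩).symm)
      have hP : G.P = 0 := G.eq_zero_iff.2 hex
      have hM : r = G.M := by have := G.card; omega
      have hm : ∀ l : Fin r, ∃ t, b ⟨G.oM (finCongr hM l), G.oM_le _⟩ t = G.m (finCongr hM l) := fun l => by
        have := G.m_mem (finCongr hM l)
        rwa [dif_pos (G.oM_le _)] at this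
      choose t ht using hm
      refine ⟨fun l => G.oM (finCongr hM l), fun l => G.oM_le _, t, fun l => G.m (finCongr hM l),
        fun l => (ht l).symm, Fintype.card_fin r, fun l => G.oM_le _, fun i hi => ?_⟩
      refine Eq.trans ?_ (G.span i hi)
      haveI : IsEmpty (Fin G.P) := by rw [hP]; infer_instance
      rw [Set.range_eq_empty (fun l => if G.oP l < i then _ else _), Submodule.span_empty, sup_bot_eq]
      exact congrArg _ (EquivLike.range_comp (fun l => tr (nF K f) (nF K g) (G.oM l) i (G.m l)) (finCongr hM))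
    · exact ⟨fun _ => 0, fun _ => Nat.zero_le n, id, b ⟨0, Nat.zero_le n⟩, fun _ => rfl,
        isFrame_zero hs (linked_nF H.hI) hch (hbspan ⟨0, Nat.zero_le n⟩).symm (Fintype.card_fin r)⟩
  refine ⟨o, ho, J', q, c, fun l => ⟨hc l ▸ hbV ⟨o l, ho l⟩ (q l), fun m => ?_⟩, fun i hi => ?_⟩
  · rw [hc l]
    exact (hbδ ⟨o l, ho l⟩ (q l) m).trans Matrix.one_apply
  · have hmem : ∀ l, trans f g o K c i l ∈ D.val x i := fun l =>
      tr_mem (fun i h => ⟨hpt.mapF i h, hpt.mapG i h⟩) (ho l) hi (hc l ▸ hbV ⟨o l, ho l⟩ (q l))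
    have hli : LinearIndependent K (trans f g o K c i) := by
      show LinearIndependent K fun l => tr (nF K f) (nF K g) (o l) i (c l)
      rw [linearIndependent_iff_card_eq_finrank_span, Set.finrank, hfr.span i hi, hfr.card, hch.rank i hi]
    show IsUnit (sqm (J' i) (trans f g o K c i)).det
    rw [← Matrix.isUnit_iff_isUnit_det, ← Matrix.linearIndependent_rows_iff_isUnit, Fintype.linearIndependent_iff]
    intro a ha l
    refine Fintype.linearIndependent_iff.1 hli a ?_ l
    refine eq_of_proj (hpt.bundle i hi) (hJ' i hi) (Submodule.sum_mem _ fun j _ => Submodule.smul_mem _ _ (hmem j))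
      (zero_mem _) fun m => ?_
    have := congrFun ha m
    simpa [Finset.sum_apply, sqm, Matrix.row] using this

/-- generic points of components are generic framed points -/
theorem exists_eta_of_component {s : R} (H : Hyp f g s r) {Z : Set D.X.left}
    (hZ : Z ∈ irreducibleComponents D.X.left) :
    ∃ (o : Fin r → ℕ) (η : D.X.left), D.IsEta o η ∧ closure {η} = Z := by
  have hcl := isClosed_of_mem_irreducibleComponents Z hZ
  have hz : IsGenericPoint hZ.1.genericPoint Z := hZ.1.isGenericPoint_genericPoint hcl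
  obtain ⟨o, η, hη, hsp⟩ := D.exists_eta_gen H hZ.1.genericPoint
  have hle : Z ⊆ closure {η} := hz.def ▸ closure_minimal (Set.singleton_subset_iff.2 hsp.mem_closure) isClosed_closure
  exact ⟨o, η, hη, subset_antisymm (hZ.2 isIrreducible_singleton.closure hle) hle⟩

end Rep

end Groth.L13.LG
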